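import Cfsg.Agent.Lib.PNil.Min
import Cfsg.Agent.Lib.Sig.LocalBalanceApps

/-!
# Balance for involutions with solvable centralizers
-/

set_option autoImplicit false
set_option linter.style.haveILetI false

namespace Cfsg.Lib.PNil

universe u

open scoped Pointwise

/-- In a solvable group the odd core of the centralizer of an involution lies in the odd core. -/
theorem core_centralizer_le {L : Type u} [Group L] [Finite L] [Group.IsSolvable L] {a : L}
    (ha : orderOf a = 2) {d : L} (hd : d ∈ Cfsg.centralizerPPrimeCore 2 a) : d ∈ Cfsg.oddCore L := by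
  haveI : Fact (Nat.Prime 2) := ⟨Nat.prime_two⟩
  set f := QuotientGroup.mk' (Cfsg.oddCore L)
  haveI : Group.IsSolvable (L ⧸ Cfsg.oddCore L) :=
    Group.isSolvable_of_surjective (QuotientGroup.mk'_surjective _)
  have hcent : Subgroup.centralizer ({f a} : Set (L ⧸ Cfsg.oddCore L)) ≤
      (Subgroup.centralizer ({a} : Set L)).map f := by
    intro y hy
    obtain ⟨c, rfl⟩ := QuotientGroup.mk'_surjective _ y
    have hy' : f c * f a = f a * f c := Subgroup.mem_centralizer_singleton_iff.1 hy
    set a' := c * a * c⁻¹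
    have ha' : orderOf a' = 2 := by rw [Invol.orderOf_conj_eq, ha]
    have hfa : f a' = f a := by
      rw [map_mul, map_mul, map_inv, hy', mul_inv_cancel_right]
    have hodd : Odd (orderOf (a' * a)) := by
      refine ZStar.odd_orderOf_oddCore ((QuotientGroup.eq_one_iff _).1 ?_)
      show f (a' * a) = 1
      rw [map_mul, hfa, ← map_mul, Invol.inv_mul_self ha, map_one]
    obtain ⟨g, hg, hga⟩ := Invol.exists_conj_of_odd ha' ha hodd
    have hgimg : f g ∈ Subgroup.zpowers (f a) := by
      have : Subgroup.closure ({a', a} : Set L) ≤ (Subgroup.zpowers (f a)).comap f :=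
        (Subgroup.closure_le _).2 (by
          rintro x (rfl | rfl)
          · show f a' ∈ Subgroup.zpowers (f a)
            rw [hfa]; exact Subgroup.mem_zpowers _
          · exact Subgroup.mem_zpowers _)
      exact this hg
    obtain ⟨i, hi⟩ := hgimg
    refine ⟨a ^ (-i) * (g * c), Subgroup.mem_centralizer_singleton_iff.2 ?_, ?_⟩
    · have h1 : Commute (g * c) a := by
        show g * c * a = a * (g * c)
        calc g * c * a = g * (c * a * c⁻¹) * g⁻¹ * (g * c) := by group
          _ = a * (g * c) := by rw [hga]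
      exact (((Commute.refl a).zpow_left _).mul_left h1).eq
    · have hi' : f a ^ i = f g := hi
      rw [map_mul, map_mul, map_zpow, ← hi', ← mul_assoc, ← zpow_add, neg_add_cancel, zpow_zero,
        one_mul]
  have h1 := Sig.LocalBalance.mem_core_map (p := 2) f hcent hd
  have hfa2 : f a ^ 2 = 1 := by rw [← map_pow, pow_two, Invol.inv_mul_self ha, map_one]
  have h2 := Sig.LocalBalance.le_centralizer_pCore (p := 2) hfa2
    (Sig.LocalBalance.core_coprime (f a)) le_rfl h1
  have h3 := Core.centralizer_pCore_le_of_isPSolvable Core.isPSolvable_of_isSolvable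
    (Core.pPrimeCore_quotient_eq_bot (p := 2) (G := L)) h2
  obtain ⟨k, hk⟩ := IsPGroup.iff_orderOf.1 (Core.pCore_isPGroup 2 _) ⟨f d, h3⟩
  rw [Subgroup.orderOf_mk] at hk
  refine (QuotientGroup.eq_one_iff d).1 (orderOf_eq_one_iff.1
    (Nat.eq_one_of_dvd_coprimes (coprime_of_sq ⟨k, hk⟩ ?_) dvd_rfl (dvd_refl (orderOf (f d)))))
  exact (Nat.coprime_two_right.1 (Sig.LocalBalance.orderOf_coprime_of_mem
    (Sig.LocalBalance.core_coprime (f a)) h1))

namespace Min

variable {p : ℕ} {G : Type u} [Group G] [Finite G] (h : Min p G)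
include h

theorem balance {a b x : G} (ha : orderOf a = 2) (hb : b ≠ 1) (hab : Commute a b)
    (hx : x ∈ coreOf (Subgroup.centralizer ({a} : Set G))) (hxb : Commute x b) :
    x ∈ coreOf (Subgroup.centralizer ({b} : Set G)) := by
  haveI := h.solvable _ (h.centralizer_ne_top hb)
  refine mem_coreOf (Subgroup.mem_centralizer_singleton_iff.2 hxb.eq) (core_centralizer_le
    (a := (⟨a, Subgroup.mem_centralizer_singleton_iff.2 hab.eq⟩ :
      Subgroup.centralizer ({b} : Set G))) (by rw [Subgroup.orderOf_mk]; exact ha) ?_)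
  exact Sig.LocalBalance.mem_core_of_injective
    (Subgroup.centralizer ({b} : Set G)).subtype_injective hx

end Min

end Cfsg.Lib.PNil
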