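import Cfsg.Agent.Lib.PNil.Kernel
import Cfsg.Agent.Lib.FusionSys.QdControl
import Cfsg.Agent.Lib.Local.SL2Involved
import Cfsg.Agent.Lib.Local.Uniq.Basic
import Cfsg.Agent.S0664

/-!
# The case of an odd p'-core

Then `M` is `O_{p'}(M) N(Z(J(P)))`, so it contains a Sylow p-subgroup of `G` and controls its fusion,
as there is no section `Qd(p)`; this contradicts the existence of the kernel.
-/

set_option autoImplicit false
set_option linter.style.haveILetI false
set_option linter.unusedSectionVars false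

namespace Cfsg.Lib.PNil

open Cfsg.Lib
open scoped MatrixGroups

universe u

variable {p : ℕ} {G : Type u} [Group G] [Finite G]

namespace Min

variable (h : Min p G)
include h

theorem five_le : 5 ≤ p := by
  have h4 : p ≠ 4 := fun e => absurd (e ▸ h.prime) (by norm_num)
  have := h.gt
  omega

theorem qd_free : ¬ Cfsg.Involves (Cfsg.qd p) G := by
  haveI := Fact.mk h.prime
  intro hq
  obtain ⟨K, f, hf⟩ := FusionSys.involves_iff_exists_hom.1 (Local.SL2Involved.involves_SL2_of_qd hq)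
  by_cases hK : K = ⊤
  · subst hK
    haveI := h.simple
    set g : G →* SL(2, ZMod p) := f.comp (Subgroup.topEquiv (G := G)).symm.toMonoidHom
    have hg : Function.Surjective g := hf.comp Subgroup.topEquiv.symm.surjective
    have h1 : (-1 : SL(2, ZMod p)) ≠ 1 := fun e => by
      have h1 := congrFun (congrFun (congrArg
        (fun X : SL(2, ZMod p) => (X : Matrix (Fin 2) (Fin 2) (ZMod p))) e) 0) 0
      simp at h1
      have h2 : ((2 : ℕ) : ZMod p) = 0 := by push_cast; linear_combination -h1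
      have := Nat.le_of_dvd two_pos ((ZMod.natCast_eq_zero_iff _ _).1 h2)
      have := h.gt
      omega
    obtain ⟨a, ha⟩ := hg (-1)
    rcases IsSimpleGroup.eq_bot_or_eq_top_of_normal g.ker inferInstance with hb | ht
    · refine h.centralizer_ne_top (t := a) (fun e => h1 (by rw [← ha, e, map_one])) ?_
      refine eq_top_iff.2 fun b _ => Subgroup.mem_centralizer_singleton_iff.2 ?_
      refine (MonoidHom.ker_eq_bot_iff g).1 hb ?_
      rw [map_mul, map_mul, ha]
      simp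
    · have : g a = 1 := (ht ▸ Subgroup.mem_top a : a ∈ g.ker)
      exact h1 (ha ▸ this)
  · haveI := h.solvable K hK
    exact Local.SL2Involved.not_isPSolvable_SL2 h.five_le
      (Core.isPSolvable_of_surjective f hf Core.isPSolvable_of_isSolvable)

theorem odd_core_false {M : Subgroup G} (hM : Cfsg.IsStronglyEmbedded M)
    (hodd : Odd (Nat.card (Cfsg.pPrimeCore p M))) : False := by
  haveI := Fact.mk h.prime
  haveI : Fact (Nat.Prime 2) := ⟨Nat.prime_two⟩
  haveI := h.solvable M hM.1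
  obtain ⟨K, hKn, hKi, hKc, hKd⟩ := h.exists_kernel hM
  haveI := hKn
  obtain ⟨P⟩ := (inferInstance : Nonempty (Sylow p M))
  have hPne : (P : Subgroup M) ≠ ⊥ := P.ne_bot_of_dvd_card (hKi ▸ Subgroup.index_dvd_card K)
  set O := Cfsg.pPrimeCore p M
  set f := QuotientGroup.mk' O
  have hinj : Set.InjOn f (P : Subgroup M) := by
    intro x hx y hy e
    have h1 : x⁻¹ * y ∈ O := by
      rw [← QuotientGroup.eq_one_iff]
      show f (x⁻¹ * y) = 1
      rw [map_mul, map_inv, e, inv_mul_cancel]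
    obtain ⟨k, hk⟩ := IsPGroup.iff_card.1 P.isPGroup'
    exact inv_mul_eq_one.1 (Subgroup.disjoint_def.1 (Subgroup.disjoint_of_coprime_natCard
      (H := (P : Subgroup M)) (K := O)
      (hk ▸ Nat.Coprime.pow_left k (Core.pPrimeCore_coprime p M).symm))
      (mul_mem (inv_mem hx) hy) h1)
  -- the ZJ theorem modulo the core
  set Z₀ := Cfsg.centerThompsonAOf (P : Subgroup M)
  have hZP : Z₀ ≤ P := Local.GlaubermanZJ.centerThompsonAOf_le _
  haveI : Group.IsSolvable (M ⧸ O) := Group.isSolvable_of_surjective (QuotientGroup.mk'_surjective _)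
  set P₁ := P.mapSurjective (f := f) (QuotientGroup.mk'_surjective _)
  set Z₁ := Cfsg.centerThompsonAOf (P₁ : Subgroup (M ⧸ O))
  haveI hZ₁ : Z₁.Normal := Cfsg.Agent.S0664.result h.ne_two
    (Local.SL2Involved.not_involves_qd_of_not_involves_SL2
      (Local.SL2Involved.not_involves_SL2_of_isPSolvable h.five_le Core.isPSolvable_of_isSolvable))
    (Core.centralizer_pCore_le_of_isPSolvable Core.isPSolvable_of_isSolvable
      Core.pPrimeCore_quotient_eq_bot) P₁
  have hZf : Z₀.map f = Z₁ := by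
    rw [Local.GlaubermanZJ.map_centerThompsonAOf' f _ hinj]
    simp only [Z₁, P₁, Sylow.coe_mapSurjective]
  haveI : (Z₁.comap f).Normal := hZ₁.comap f
  set N := Z₁.comap f
  have hZN : Z₀ ≤ N := fun z hz => hZf.le ⟨z, hz, rfl⟩
  have hidx : ¬ p ∣ (Z₀.subgroupOf N).index := by
    have h1 : Nat.card N = Nat.card O * Nat.card Z₁ := by
      rw [Core.card_comap_eq f (QuotientGroup.mk'_surjective _), QuotientGroup.ker_mk']
    have h2 : Nat.card Z₀ = Nat.card Z₁ := by
      let φ : Z₀ → Z₁ := fun x => ⟨f x, hZf.le ⟨x, x.2, rfl⟩⟩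
      refine Nat.card_eq_of_bijective φ
        ⟨fun x y e => Subtype.ext (hinj (hZP x.2) (hZP y.2) (congrArg Subtype.val e)), fun y => ?_⟩
      obtain ⟨x, hx, e⟩ := hZf.ge y.2
      exact ⟨⟨x, hx⟩, Subtype.ext e⟩
    have h3 : (Z₀.subgroupOf N).index * Nat.card Z₀ = Nat.card N := by
      rw [← Nat.card_congr (Subgroup.subgroupOfEquivOfLe hZN).toEquiv, Subgroup.index_mul_card]
    rw [h1, h2] at h3
    rw [Nat.eq_of_mul_eq_mul_right Nat.card_pos h3]
    exact (Nat.Prime.coprime_iff_not_dvd h.prime).1 (Core.pPrimeCore_coprime p M).symm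
  have hZpN : IsPGroup p (Z₀.subgroupOf N) :=
    (P.isPGroup'.to_le hZP).comap_of_injective N.subtype N.subtype_injective
  have hfr := Sylow.normalizer_sup_eq_top (hZpN.toSylow hidx)
  rw [IsPGroup.toSylow_coe, Subgroup.map_subgroupOf_eq_of_le hZN] at hfr
  set NZ := Subgroup.normalizer (Z₀ : Set M)
  have hNO : O ⊔ NZ = ⊤ := by
    rw [eq_top_iff, ← hfr]
    refine sup_le le_sup_right fun x hx => ?_
    obtain ⟨z, hz, e⟩ := hZf.ge (Subgroup.mem_comap.1 hx)
    have h1 : x * z⁻¹ ∈ O := by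
      rw [← QuotientGroup.eq_one_iff]
      show f (x * z⁻¹) = 1
      rw [map_mul, map_inv, e, mul_inv_cancel]
    rw [← inv_mul_cancel_right x z]
    exact mul_mem (le_sup_left (b := NZ) h1) (le_sup_right (a := O) (Subgroup.le_normalizer hz))
  have hNZodd : Odd NZ.index := by
    refine hodd.of_dvd_nat ?_
    have h1 := card_sup_dvd (A := O) (B := NZ) (fun x _ => by
      rw [Subgroup.normalizer_eq_top_iff.2 (inferInstance : O.Normal)]; exact Subgroup.mem_top x)
    rw [hNO, Subgroup.card_top, ← Subgroup.index_mul_card NZ] at h1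
    exact Nat.dvd_of_mul_dvd_mul_right Nat.card_pos h1
  -- a four-group normalizing `Z(J(P))`
  obtain ⟨A, hAM, hA, hA8⟩ := h.exists_eight hM
  obtain ⟨m, hm⟩ : ∃ m : M, ∀ a ∈ A.subgroupOf M, m⁻¹ * a * m ∈ NZ := by
    obtain ⟨c, hc⟩ := ((isPGroup_of_sq hA).comap_of_injective M.subtype M.subtype_injective :
      IsPGroup 2 (A.subgroupOf M)).nonempty_fixed_point_of_prime_not_dvd_card (M ⧸ NZ)
      (fun hd => Nat.not_even_iff_odd.2 hNZodd (even_iff_two_dvd.2 hd))
    obtain ⟨m, rfl⟩ := QuotientGroup.mk_surjective c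
    exact ⟨m, fun a ha => Invol.smul_coset_eq_iff.1 (hc ⟨a, ha⟩)⟩
  set V := A.map (MulAut.conj (m⁻¹ : M).1).toMonoidHom
  set PG := (P : Subgroup M).map M.subtype
  have hZ : Z₀.map M.subtype = Cfsg.centerThompsonAOf PG :=
    Local.GlaubermanZJ.map_centerThompsonAOf' M.subtype _ M.subtype_injective.injOn
  set L := Subgroup.normalizer (Cfsg.centerThompsonAOf PG : Set G) with hL
  have hPGne : PG ≠ ⊥ := fun e =>
    hPne ((Subgroup.map_eq_bot_iff_of_injective _ M.subtype_injective).1 e)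
  have hPG : IsPGroup p PG := P.isPGroup'.map _
  have hLne : L ≠ ⊤ := h.normalizer_ne_top (Local.GlaubermanZJ.centerThompsonAOf_ne_bot hPG hPGne)
    (h.ne_top_of_isPGroup (hPG.to_le (Local.GlaubermanZJ.centerThompsonAOf_le _)))
  have hVL : V ≤ L := by
    rintro _ ⟨a, ha, rfl⟩
    have h1 := hm ⟨a, hAM ha⟩ ha
    rw [hL, ← hZ]
    refine Subgroup.le_normalizer_map M.subtype ⟨_, h1, ?_⟩
    simp
  have hLM : L ≤ M := by
    refine h.le_of_four hM hLne hVL ?_ ?_ ?_
    · rintro _ ⟨a, ha, rfl⟩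
      exact mul_mem (mul_mem (inv_mem m.2) (hAM ha)) (inv_mem (inv_mem m.2))
    · rintro _ ⟨a, ha, rfl⟩
      rw [← map_mul, hA a ha, map_one]
    · rw [Subgroup.card_map_of_injective (MulAut.conj (m⁻¹ : M).1).injective]
      omega
  -- `P` is a Sylow subgroup of `G`
  have hPM : PG ≤ M := Subgroup.map_subtype_le _
  have hPrel : ¬ p ∣ PG.relIndex M := by
    rw [Subgroup.relIndex, Subgroup.subgroupOf, Subgroup.comap_map_eq_self_of_injective M.subtype_injective]
    exact P.not_dvd_index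
  have hNP : Subgroup.normalizer (PG : Set G) ≤ M :=
    (Local.GlaubermanZJ.normalizer_le_normalizer_centerThompsonAOf PG).trans hLM
  set T := hPG.toSylow (Local.Uniq.sylow_of_normalizer_le hPM hPG hPrel hNP)
  have hTP : (T : Subgroup G) = PG := IsPGroup.toSylow_coe _ _
  -- conjugate p-elements of `M` are conjugate in `M`
  have hfus0 : ∀ a b : M, a ∈ (P : Subgroup M) → b ∈ (P : Subgroup M) → ∀ g : G,
      g * a * g⁻¹ = b → ∃ x : M, x * a * x⁻¹ = b := by
    intro a b ha hb g hg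
    have hab := FusionSys.controls_zj_of_qdFree h.ne_two T h.qd_free
      (FusionSys.isStronglyClosed_self _) {(a : G)} (by
        rw [Set.singleton_subset_iff, hTP]; exact ⟨a, ha, rfl⟩)
    obtain ⟨x, hx, hxa⟩ := hab.2 g (by
      rw [Set.image_singleton, Set.singleton_subset_iff, hg, hTP]; exact ⟨b, hb, rfl⟩)
    rw [hTP] at hx
    exact ⟨⟨x, hLM hx⟩, Subtype.ext ((hxa _ rfl).symm.trans hg)⟩
  have htoP : ∀ a : M, (∃ k, orderOf a = p ^ k) → ∃ x : M, x * a * x⁻¹ ∈ (P : Subgroup M) := by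
    rintro a ⟨k, hk⟩
    obtain ⟨Q, hQ⟩ := (IsPGroup.of_card (n := k) (by rw [Nat.card_zpowers, hk]) :
      IsPGroup p (Subgroup.zpowers a)).exists_le_sylow
    obtain ⟨x, hx⟩ := MulAction.exists_smul_eq M Q P
    refine ⟨x, ?_⟩
    rw [← hx, Sylow.coe_subgroup_smul]
    exact ⟨a, hQ (Subgroup.mem_zpowers a), by simp [MulAut.smul_def]⟩
  have hfus : ∀ a b : M, (∃ k, orderOf a = p ^ k) → ∀ g : G, g * a * g⁻¹ = b →
      ∃ x : M, x * a * x⁻¹ = b := by
    intro a b hk g hg
    have hkb : ∃ k, orderOf b = p ^ k := by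
      obtain ⟨k, hk⟩ := hk
      exact ⟨k, by rw [← Subgroup.orderOf_coe b, ← hg, Invol.orderOf_conj_eq, Subgroup.orderOf_coe, hk]⟩
    obtain ⟨x, hx⟩ := htoP a hk
    obtain ⟨y, hy⟩ := htoP b hkb
    obtain ⟨z, hz⟩ := hfus0 _ _ hx hy ((y : G) * g * (x : G)⁻¹) (by
      simp only [Subgroup.coe_mul, InvMemClass.coe_inv, ← hg]; group)
    refine ⟨y⁻¹ * z * x, ?_⟩
    calc y⁻¹ * z * x * a * (y⁻¹ * z * x)⁻¹ = y⁻¹ * (z * (x * a * x⁻¹) * z⁻¹) * y := by group
      _ = b := by rw [hz]; group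
  -- the quotient is commutative
  have hQ : Nat.card (M ⧸ K) = p := hKi
  haveI : IsCyclic (M ⧸ K) := isCyclic_of_prime_card hQ
  have hconjK : ∀ x a : M, (QuotientGroup.mk (x * a * x⁻¹) : M ⧸ K) = QuotientGroup.mk a := by
    intro x a
    rw [QuotientGroup.mk_mul, QuotientGroup.mk_mul, QuotientGroup.mk_inv,
      (IsCyclic.isMulCommutative (α := M ⧸ K)).is_comm.comm (QuotientGroup.mk x) (QuotientGroup.mk a),
      mul_inv_cancel_right]
  -- an element of `D` outside `K`
  obtain ⟨u, huM, hu2⟩ := Invol.se_exists_outside hM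
  have huu : u * u = 1 := Invol.inv_mul_self hu2
  have hui : u⁻¹ = u := Invol.inv_eq_self hu2
  set D := M ⊓ M.map (MulAut.conj u).toMonoidHom
  have hDodd : Odd (Nat.card D) := hM.2.2 u huM
  obtain ⟨d, hdD, hdK⟩ := hKd u hu2 huM
  have hσσ : ∀ z : G, u * (u * z * u) * u = z := fun z => by
    rw [show u * (u * z * u) * u = (u * u) * z * (u * u) by group, huu, one_mul, mul_one]
  have hDσ : ∀ z ∈ D, u * z * u ∈ D := by
    rintro z ⟨hz, y, hy, rfl⟩
    refine ⟨?_, _, hz, ?_⟩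
    · show u * (u * y * u⁻¹) * u ∈ M
      rw [hui, hσσ]
      exact hy
    · show u * (u * y * u⁻¹) * u⁻¹ = u * (u * y * u⁻¹) * u
      rw [hui]
  set j := (d : G) * (u * (d : G) * u)⁻¹
  have hjD : j ∈ D := mul_mem hdD (inv_mem (hDσ _ hdD))
  have hju : u * j * u = j⁻¹ := by
    simp only [j, mul_inv_rev, inv_inv, hui]
    calc u * ((d : G) * (u * ((d : G)⁻¹ * u))) * u
        = u * (d : G) * u * (d : G)⁻¹ * (u * u) := by group
      _ = u * (d : G) * u * (d : G)⁻¹ := by rw [huu, mul_one]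
  obtain ⟨t, ht⟩ := hDodd.of_dvd_nat (Subgroup.orderOf_dvd_natCard D hjD)
  set s := j ^ (t + 1)
  have hss : s * s = j := by
    rw [← pow_add, show t + 1 + (t + 1) = orderOf j + 1 by omega, pow_succ, pow_orderOf_eq_one, one_mul]
  have hsD : s ∈ D := pow_mem hjD _
  have hsu : u * s * u⁻¹ = s⁻¹ := by
    rw [← conj_pow, ← inv_pow, hui, hju]
  set sM : M := ⟨s, hsD.1⟩
  by_cases hsK : sM ∈ K
  · -- the fixed part
    set c := sM⁻¹ * d
    have hcK : c ∉ K := fun hc => hdK (by simpa [c] using mul_mem hsK hc)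
    have hcu : u * (c : G) * u⁻¹ = c := by
      show u * (s⁻¹ * (d : G)) * u⁻¹ = s⁻¹ * d
      have e1 : u * s⁻¹ * u⁻¹ = s := by rw [← conj_inv, hsu, inv_inv]
      calc u * (s⁻¹ * (d : G)) * u⁻¹ = u * s⁻¹ * u⁻¹ * (u * (d : G) * u⁻¹) := by group
        _ = s * (u * d * u) := by rw [e1, hui]
        _ = s⁻¹ * (s * s) * (u * d * u) := by group
        _ = s⁻¹ * d := by rw [hss]; simp only [j]; group
    obtain ⟨k, l, hl, hkl⟩ := Nat.exists_eq_pow_mul_and_not_dvd (orderOf_pos c).ne' p h.prime.ne_one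
    have hl0 : l ≠ 0 := fun e => hl (by rw [e]; exact dvd_zero p)
    have hclK : c ^ l ∉ K := by
      intro hcl
      have hcp : c ^ p ∈ K := by
        have h1 := K.pow_index_mem c
        rwa [hKi] at h1
      have hg := Subgroup.zpow_mem K hcl (Nat.gcdA l p)
      have hg' := Subgroup.zpow_mem K hcp (Nat.gcdB l p)
      have he : (c : M) = (c ^ l) ^ Nat.gcdA l p * (c ^ p) ^ Nat.gcdB l p := by
        rw [← zpow_natCast c l, ← zpow_natCast c p, ← zpow_mul, ← zpow_mul, ← zpow_add,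
          ← Nat.gcd_eq_gcd_ab, Nat.coprime_comm.1 ((Nat.Prime.coprime_iff_not_dvd h.prime).2 hl),
          Nat.cast_one, zpow_one]
      exact hcK (he ▸ mul_mem hg hg')
    obtain ⟨i, hi, hi2⟩ := Invol.exists_involution_of_even hM.2.1
    obtain ⟨g, hg⟩ := isConj_iff.1 (Invol.se_isConj hM hi2 hu2)
    have hcomm : Commute ((c ^ l : M) : G) u := by
      rw [Subgroup.coe_pow]
      exact Commute.pow_left (mul_inv_eq_iff_eq_mul.1 hcu).symm l
    set e := g⁻¹ * ((c ^ l : M) : G) * g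
    have hei : Commute e i := by
      have := hcomm.map (MulAut.conj g⁻¹).toMonoidHom
      rw [← hg] at this
      simpa [e, mul_assoc] using this
    have heM : e ∈ M := Invol.se_centralizer hM hi hi2 hei
    have heK : (⟨e, heM⟩ : M) ∈ K :=
      hKc _ ⟨i, hi⟩ (by rw [Subgroup.orderOf_mk]; exact hi2) (Subtype.ext hei.eq)
    obtain ⟨x, hx⟩ := hfus ⟨e, heM⟩ (c ^ l) ⟨k, by
      rw [← Subgroup.orderOf_coe]
      show orderOf (g⁻¹ * ((c ^ l : M) : G) * g) = p ^ k
      rw [show g⁻¹ * ((c ^ l : M) : G) * g = g⁻¹ * ((c ^ l : M) : G) * g⁻¹⁻¹ by group,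
        Invol.orderOf_conj_eq, Subgroup.orderOf_coe,
        orderOf_pow_of_dvd hl0 (hkl ▸ dvd_mul_left l _), hkl,
        Nat.mul_div_cancel _ (Nat.pos_of_ne_zero hl0)]⟩ g (by simp [e, mul_assoc])
    exact hclK (hx ▸ hKn.conj_mem _ heK x)
  · -- the inverted part
    obtain ⟨k, hk⟩ := h.inverted_pow hM hu2 huM hsD hsu
    obtain ⟨x, hx⟩ := hfus sM sM⁻¹ ⟨k, by rw [Subgroup.orderOf_mk, hk]⟩ u (by
      rw [InvMemClass.coe_inv]; exact hsu)
    have h1 := hconjK x sM
    rw [hx, QuotientGroup.mk_inv] at h1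
    have h2 : orderOf (QuotientGroup.mk sM : M ⧸ K) ∣ 2 := orderOf_dvd_of_pow_eq_one (by
      rw [pow_two]; nth_rw 1 [← h1]; exact inv_mul_cancel _)
    have h3 : orderOf (QuotientGroup.mk sM : M ⧸ K) ∣ p := hQ ▸ orderOf_dvd_natCard _
    exact hsK ((QuotientGroup.eq_one_iff sM).1 (orderOf_eq_one_iff.1 (Nat.eq_one_of_dvd_coprimes
      ((Nat.coprime_primes Nat.prime_two h.prime).2 h.ne_two.symm) h2 h3)))

end Min

end Cfsg.Lib.PNil
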