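import Cfsg.Agent.Lib.PNil.Kernel

/-!
# The case of a normal elementary abelian subgroup containing all involutions

Then the two-point stabilizers on the cosets of `M` have order `p` and are self-centralizing in `G`,
and a count of the products of two involutions shows `M = G`.
-/

set_option autoImplicit false
set_option linter.style.haveILetI false
set_option linter.unusedSectionVars false

namespace Cfsg.Lib.PNil

open Cfsg.Lib

universe u

variable {p : ℕ} {G : Type u} [Group G] [Finite G]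

/-- A normal elementary abelian subgroup of `M` containing its involutions. -/
structure ElemCore (M E : Subgroup G) : Prop where
  le : E ≤ M
  normal : M ≤ Subgroup.normalizer (E : Set G)
  sq : ∀ e ∈ E, e * e = 1
  mem : ∀ t ∈ M, orderOf t = 2 → t ∈ E

theorem ElemCore.map {M E : Subgroup G} (hE : ElemCore M E) (e : G ≃* G) :
    ElemCore (M.map e.toMonoidHom) (E.map e.toMonoidHom) where
  le := Subgroup.map_mono hE.le
  normal := (Subgroup.map_mono hE.normal).trans (Subgroup.le_normalizer_map _)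
  sq := by
    rintro _ ⟨x, hx, rfl⟩
    rw [← map_mul, hE.sq x hx, map_one]
  mem := by
    rintro _ ⟨t, ht, rfl⟩ ht2
    exact ⟨t, hE.mem t ht (by rwa [orderOf_injective e.toMonoidHom e.injective] at ht2), rfl⟩

/-- An involution of `M` inverts no nontrivial odd order element of `M`. -/
theorem ElemCore.eq_one {M E : Subgroup G} (hE : ElemCore M E) {w x : G} (hw : w ∈ M)
    (hw2 : orderOf w = 2) (hx : x ∈ M) (hodd : Odd (orderOf x)) (hwx : w * x * w⁻¹ = x⁻¹) : x = 1 := by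
  have hwE := hE.mem w hw hw2
  have h1 : w * x * w⁻¹ * x⁻¹ ∈ E := by
    rw [show w * x * w⁻¹ * x⁻¹ = w * (x * w⁻¹ * x⁻¹) by group]
    exact mul_mem hwE ((Subgroup.mem_normalizer_iff.1 (hE.normal hx) _).1 (inv_mem hwE))
  have h2 := hE.sq _ h1
  rw [hwx] at h2
  refine orderOf_eq_one_iff.1 (Nat.eq_one_of_dvd_coprimes
    (Nat.Coprime.pow_left 2 hodd.coprime_two_left : (2 ^ 2).Coprime (orderOf x)) ?_ dvd_rfl)
  refine orderOf_dvd_of_pow_eq_one (inv_injective ?_)
  rw [inv_one, ← h2]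
  group

namespace Min

variable (h : Min p G) {M E : Subgroup G} (hM : Cfsg.IsStronglyEmbedded M) (hE : ElemCore M E)
include h hM hE

theorem elem_card : 8 ≤ Nat.card E := by
  obtain ⟨A, hAM, hA, hA8⟩ := h.exists_eight hM
  refine hA8.trans (Subgroup.card_le_of_le fun a ha => ?_)
  by_cases h1 : a = 1
  · rw [h1]; exact one_mem _
  · exact hE.mem a (hAM ha) (Invol.orderOf_eq_two_of h1 (hA a ha))

theorem elem_data : Nat.card {t : G // orderOf t = 2 ∧ t ∈ M} = p ∧
    (∀ m ∈ M, ∀ i ∈ M, orderOf i = 2 → Commute m i → ∀ e ∈ E, Commute m e) ∧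
    (∀ m ∈ M, ∀ e ∈ E, Commute (m ^ p) e) ∧
    ∃ K : Subgroup M, K.Normal ∧ K.index = p ∧ ∀ m : M, m ∈ K → ∀ e ∈ E, Commute (m : G) e := by
  haveI := h.solvable M hM.1
  haveI : Fact (Nat.Prime 2) := ⟨Nat.prime_two⟩
  haveI hn : (E.subgroupOf M).Normal := (Subgroup.normal_subgroupOf_iff_le_normalizer hE.le).2 hE.normal
  let φ : M →* MulAut (E.subgroupOf M) := MulAut.conjNormal
  have hφ : ∀ (m : M) (a : E.subgroupOf M), (((φ m a : E.subgroupOf M) : M) : G) = m * a * (m : G)⁻¹ :=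
    fun m a => congrArg Subtype.val (MulAut.conjNormal_apply m a)
  have hcard : Nat.card (E.subgroupOf M) = Nat.card E :=
    Nat.card_congr (Subgroup.subgroupOfEquivOfLe hE.le).toEquiv
  have hinv : ∀ a : E.subgroupOf M, a ≠ 1 → orderOf ((a : M) : G) = 2 := fun a ha =>
    Invol.orderOf_eq_two_of (fun e => ha (Subtype.ext (Subtype.ext e))) (hE.sq _ a.2)
  obtain ⟨u, hu, hu2⟩ := Invol.se_exists_outside hM
  have htr : ∀ a b : E.subgroupOf M, a ≠ 1 → b ≠ 1 → ∃ m, φ m a = b := by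
    intro a b ha hb
    obtain ⟨d, hd, hdt⟩ := Invol.se_transitive hM hu2 hu (hinv a ha) (a : M).2 (hinv b hb) (b : M).2
    exact ⟨⟨d, hd.1⟩, Subtype.ext (Subtype.ext (by rw [hφ]; exact hdt))⟩
  have hI : Nat.card {t : G // orderOf t = 2 ∧ t ∈ M} = Nat.card (E.subgroupOf M) - 1 := by
    classical
    haveI : Fintype (E.subgroupOf M) := Fintype.ofFinite _
    rw [Nat.card_eq_fintype_card (α := E.subgroupOf M), ← Fintype.card_subtype_eq (1 : E.subgroupOf M),
      ← Fintype.card_subtype_compl, ← Nat.card_eq_fintype_card]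
    exact Nat.card_congr
      { toFun := fun t => ⟨⟨⟨t.1, t.2.2⟩, hE.mem _ t.2.2 t.2.1⟩, fun e =>
          Invol.ne_one t.2.1 (congrArg (fun z : E.subgroupOf M => ((z : M) : G)) e)⟩
        invFun := fun a => ⟨((a.1 : M) : G), hinv a.1 a.2, (a.1 : M).2⟩
        left_inv := fun t => rfl
        right_inv := fun a => rfl }
  obtain ⟨k, hk⟩ := h.card_invol_pow hM
  obtain ⟨hidx, hVp, hstab⟩ := kernel_index φ
    (fun a => Subtype.ext (Subtype.ext (hE.sq _ a.2))) (by rw [hcard]; exact h.elem_card hM hE) htr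
    h.prime ⟨k, by rw [← hI, hk]⟩ fun m hm hmp => by
      refine MulEquiv.ext fun a => Subtype.ext (Subtype.ext ?_)
      rw [hφ]
      have h1 := mem_coreOf m.2 ((h.toHyp.subgroup M).odd_mem_core hm hmp)
      rw [(show Commute (m : G) ((a : M) : G) from
        coreOf_commute hE.le hE.normal (isPGroup_of_sq hE.sq) h1 a.2).eq, mul_inv_cancel_right]
      rfl
  have hker : ∀ m : M, φ m = 1 → ∀ e ∈ E, Commute (m : G) e := by
    intro m hm e he
    have h1 := hφ m ⟨⟨e, hE.le he⟩, Subgroup.mem_subgroupOf.2 he⟩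
    rw [hm, MulAut.one_apply] at h1
    exact (mul_inv_eq_iff_eq_mul.1 h1.symm)
  refine ⟨by rw [hI, hVp, Nat.add_sub_cancel], fun m hm i hi hi2 hmi => ?_, fun m hm => ?_,
    φ.ker, inferInstance, hidx, fun m hm => hker m hm⟩
  · refine hker ⟨m, hm⟩ (hstab ⟨m, hm⟩ ⟨⟨i, hi⟩, hE.mem i hi hi2⟩
      (fun e => Invol.ne_one hi2 (congrArg (fun z : E.subgroupOf M => ((z : M) : G)) e))
      (Subtype.ext (Subtype.ext ?_)))
    rw [hφ]
    show m * i * m⁻¹ = i
    rw [hmi.eq, mul_inv_cancel_right]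
  · refine fun e he => hker (⟨m, hm⟩ ^ p) ?_ e he
    have h1 := φ.ker.pow_index_mem (⟨m, hm⟩ : M)
    rw [hidx] at h1
    exact h1

/-- The normalizer of a nontrivial element of `M` centralizing `E` lies in `M`. -/
theorem normalizer_le_of_commute {k : G} (hk : k ≠ 1) (hkE : ∀ e ∈ E, Commute k e) :
    Subgroup.normalizer ((Subgroup.zpowers k : Subgroup G) : Set G) ≤ M := by
  refine h.le_of_four hM (h.normalizer_ne_top (by simpa using hk) fun e => ?_) ?_ hE.le hE.sq
    (le_trans (by norm_num) (h.elem_card hM hE))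
  · refine h.noncomm ⟨⟨fun a b => ?_⟩⟩
    obtain ⟨i, rfl⟩ := (e.ge (Subgroup.mem_top a) : a ∈ Subgroup.zpowers k)
    obtain ⟨j, rfl⟩ := (e.ge (Subgroup.mem_top b) : b ∈ Subgroup.zpowers k)
    exact (Commute.zpow_zpow (Commute.refl k) i j).eq
  · intro e he
    refine Subgroup.mem_normalizer_fintype fun z hz => ?_
    obtain ⟨i, rfl⟩ := hz
    show e * k ^ i * e⁻¹ ∈ Subgroup.zpowers k
    rw [((hkE e he).zpow_left i).symm.eq, mul_inv_cancel_right]
    exact zpow_mem (Subgroup.mem_zpowers k) i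

/-- The two-point stabilizers have order `p` and are inverted. -/
theorem meet_data {u : G} (hu : orderOf u = 2) (huM : u ∉ M) :
    Nat.card (M ⊓ M.map (MulAut.conj u).toMonoidHom : Subgroup G) = p ∧
      ∀ d ∈ M ⊓ M.map (MulAut.conj u).toMonoidHom, u * d * u⁻¹ = d⁻¹ := by
  haveI := Fact.mk h.prime
  have huu : u * u = 1 := Invol.inv_mul_self hu
  have hui : u⁻¹ = u := Invol.inv_eq_self hu
  set D := M ⊓ M.map (MulAut.conj u).toMonoidHom
  obtain ⟨hn, hcen, hpow, K, hKn, hKi, hKm⟩ := h.elem_data hM hE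
  have hDodd : Odd (Nat.card D) := hM.2.2 u huM
  have hDσ : ∀ d ∈ D, u * d * u⁻¹ ∈ D := by
    rintro x ⟨hx, y, hy, rfl⟩
    refine ⟨?_, _, hx, rfl⟩
    show u * (u * y * u⁻¹) * u⁻¹ ∈ M
    rw [hui, show u * (u * y * u) * u = (u * u) * y * (u * u) by group, huu, one_mul, mul_one]
    exact hy
  have hinv : ∀ x ∈ D, u * x * u⁻¹ = x⁻¹ → (∀ e ∈ E, Commute x e) → x = 1 := by
    intro x hx hxi hxE
    by_contra hx1
    refine huM (h.normalizer_le_of_commute hM hE hx1 hxE (Subgroup.mem_normalizer_fintype ?_))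
    rintro _ ⟨i, rfl⟩
    show u * x ^ i * u⁻¹ ∈ Subgroup.zpowers x
    rw [← conj_zpow, hxi]
    exact zpow_mem (inv_mem (Subgroup.mem_zpowers x)) i
  have hord : ∀ x ∈ D, u * x * u⁻¹ = x⁻¹ → x ^ p = 1 := fun x hx hxi =>
    hinv _ (pow_mem hx p) (by rw [← conj_pow, hxi, inv_pow]) (hpow x hx.1)
  have hJ := card_inverted hM hu huM
  rw [hn] at hJ
  obtain ⟨⟨x, hxD, hxi⟩, hx1⟩ : ∃ j : {d : G // d ∈ D ∧ u * d * u⁻¹ = d⁻¹}, j.1 ≠ 1 := by
    haveI : Nontrivial {d : G // d ∈ D ∧ u * d * u⁻¹ = d⁻¹} :=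
      Finite.one_lt_card_iff_nontrivial.1 (hJ ▸ h.prime.one_lt)
    obtain ⟨a, b, hab⟩ := exists_pair_ne {d : G // d ∈ D ∧ u * d * u⁻¹ = d⁻¹}
    by_cases ha : a.1 = 1
    · exact ⟨b, fun hb => hab (Subtype.ext (ha.trans hb.symm))⟩
    · exact ⟨a, ha⟩
  -- an element centralizing `E` and its conjugate centralizing `E` is trivial
  have hcap : ∀ k ∈ D, (∀ e ∈ E, Commute k e) → (∀ e ∈ E, Commute (u * k * u⁻¹) e) → k = 1 := by
    intro k hk h1 h2
    by_contra hk1
    obtain ⟨i, hi, hi2⟩ := Invol.exists_involution_of_even hM.2.1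
    refine huM (Invol.se_mem hM hi hi2 (h.normalizer_le_of_commute hM hE hk1 h1 ?_))
    have hc : Commute k (u * i * u⁻¹) := by
      have := (h2 i (hE.mem i hi hi2)).map (MulAut.conj u).toMonoidHom
      simpa [hui, show u * (u * k * u) * u = (u * u) * k * (u * u) by group, huu] using this
    refine Subgroup.mem_normalizer_fintype ?_
    rintro _ ⟨j, rfl⟩
    show u * i * u⁻¹ * k ^ j * (u * i * u⁻¹)⁻¹ ∈ Subgroup.zpowers k
    rw [(hc.zpow_left j).symm.eq, mul_inv_cancel_right]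
    exact zpow_mem (Subgroup.mem_zpowers k) j
  -- the embedding of `D`
  haveI := hKn
  let ι : D →* (M ⧸ K) × (M ⧸ K) := MonoidHom.mk'
    (fun d => (QuotientGroup.mk ⟨d, d.2.1⟩, QuotientGroup.mk ⟨u * d * u⁻¹, (hDσ d d.2).1⟩))
    fun a b => by
      refine Prod.ext rfl ?_
      show (QuotientGroup.mk _ : M ⧸ K) = QuotientGroup.mk _ * QuotientGroup.mk _
      rw [← QuotientGroup.mk_mul]
      congr 1
      exact Subtype.ext (by show u * ((a : G) * b) * u⁻¹ = u * a * u⁻¹ * (u * b * u⁻¹); group)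
  have hι : Function.Injective ι := by
    refine (injective_iff_map_eq_one ι).2 fun d hd => Subtype.ext ?_
    exact hcap d d.2 (hKm ⟨d, d.2.1⟩ ((QuotientGroup.eq_one_iff _).1 (congrArg Prod.fst hd)))
      (hKm _ ((QuotientGroup.eq_one_iff _).1 (congrArg Prod.snd hd)))
  have hQcard : Nat.card (M ⧸ K) = p := hKi
  have hcomm : ∀ a b : D, a * b = b * a := by
    intro a b
    apply hι
    haveI : IsCyclic (M ⧸ K) := isCyclic_of_prime_card hQcard
    rw [map_mul, map_mul]
    exact Prod.ext ((IsCyclic.isMulCommutative (α := M ⧸ K)).is_comm.comm _ _)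
      ((IsCyclic.isMulCommutative (α := M ⧸ K)).is_comm.comm _ _)
  -- nothing in `D` centralizes `E`
  have htriv : ∀ k ∈ D, (∀ e ∈ E, Commute k e) → k = 1 := by
    intro k hk hkE
    by_contra hk1
    set k' := u * k * u⁻¹
    have hkk : k * k' = k' * k := congrArg Subtype.val (hcomm ⟨k, hk⟩ ⟨k', hDσ k hk⟩)
    set c := k * k'
    have hcD : c ∈ D := mul_mem hk (hDσ k hk)
    have hc1 : c ≠ 1 := fun e =>
      hk1 (hinv k hk (eq_inv_of_mul_eq_one_right e) hkE)
    have hcu : Commute c u := by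
      have h1 : u * c * u⁻¹ = c := by
        calc u * c * u⁻¹ = (u * k * u⁻¹) * ((u * u) * k * (u⁻¹ * u⁻¹)) := by
              simp only [c, k']; group
          _ = k' * k := by rw [huu, hui, huu, one_mul, mul_one]; simp [k', hui]
          _ = c := hkk.symm
      exact (mul_inv_eq_iff_eq_mul.1 h1).symm
    -- the conjugate of `M` containing `u`
    obtain ⟨i, hi, hi2⟩ := Invol.exists_involution_of_even hM.2.1
    obtain ⟨g, hg⟩ := isConj_iff.1 (Invol.se_isConj hM hi2 hu)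
    have hM' := stronglyEmbedded_map hM (MulAut.conj g)
    have hE' := hE.map (MulAut.conj g)
    have huM' : u ∈ M.map (MulAut.conj g).toMonoidHom := ⟨i, hi, hg⟩
    obtain ⟨-, hcen', -⟩ := h.elem_data hM' hE'
    have hcM' := Invol.se_centralizer hM' huM' hu hcu
    have hN := h.normalizer_le_of_commute hM' hE' hc1 (hcen' c hcM' u huM' hu hcu)
    refine hx1 (hE'.eq_one huM' hu (hN (Subgroup.mem_normalizer_fintype ?_))
      (hDodd.of_dvd_nat (Subgroup.orderOf_dvd_natCard _ hxD)) hxi)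
    rintro _ ⟨j, rfl⟩
    show x * c ^ j * x⁻¹ ∈ Subgroup.zpowers c
    have hxc : Commute x c := congrArg Subtype.val (hcomm ⟨x, hxD⟩ ⟨c, hcD⟩)
    rw [(hxc.zpow_right j).eq, mul_inv_cancel_right]
    exact zpow_mem (Subgroup.mem_zpowers c) j
  have hinj : Function.Injective fun d : D => (QuotientGroup.mk ⟨d, d.2.1⟩ : M ⧸ K) := by
    intro a b e
    have e' := hKm _ (QuotientGroup.eq.1 e)
    exact Subtype.ext (inv_mul_eq_one.1 (htriv _ (mul_mem (inv_mem a.2) b.2) e'))
  have hxp : orderOf x = p := orderOf_eq_prime (hord x hxD hxi) hx1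
  have hcard : Nat.card D = p := le_antisymm (hQcard ▸ Nat.card_le_card_of_injective _ hinj)
    (Nat.le_of_dvd Nat.card_pos (hxp ▸ Subgroup.orderOf_dvd_natCard _ hxD))
  refine ⟨hcard, fun d hd => ?_⟩
  obtain ⟨j, hj⟩ := mem_zpowers_of_prime_card hcard (g := (⟨x, hxD⟩ : D)) (g' := ⟨d, hd⟩)
    (fun e => hx1 (congrArg Subtype.val e))
  have hj' : x ^ j = d := congrArg Subtype.val hj
  rw [← hj', ← conj_zpow, hxi, inv_zpow]

end Min

end Cfsg.Lib.PNil
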