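import Cfsg.Agent.Lib.PNil.CaseB

/-!
# The count for a normal elementary abelian subgroup containing all involutions
-/

set_option autoImplicit false
set_option linter.style.haveILetI false
set_option linter.unusedSectionVars false

namespace Cfsg.Lib.PNil

open Cfsg.Lib

universe u

variable {p : ℕ} {G : Type u} [Group G] [Finite G]

namespace Min

variable (h : Min p G)
include h

theorem elem_false {M E : Subgroup G} (hM : Cfsg.IsStronglyEmbedded M) (hE : ElemCore M E) :
    False := by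
  classical
  haveI := Fact.mk h.prime
  -- the point stabilizers
  have hstab : ∀ y : G ⧸ M, ∃ E', ElemCore (MulAction.stabilizer G y) E' := by
    intro y
    obtain ⟨g, rfl⟩ := QuotientGroup.mk_surjective y
    rw [stabilizer_mk]
    exact ⟨_, hE.map (MulAut.conj g)⟩
  have hpair : ∀ (y : G ⧸ M) (w : G), orderOf w = 2 → w • y ≠ y →
      Nat.card (MulAction.stabilizer G y ⊓ MulAction.stabilizer G (w • y) : Subgroup G) = p ∧
        ∀ d ∈ MulAction.stabilizer G y ⊓ MulAction.stabilizer G (w • y), w * d * w⁻¹ = d⁻¹ := by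
    intro y w hw hwy
    obtain ⟨E', hE'⟩ := hstab y
    rw [MulAction.stabilizer_smul_eq_stabilizer_map_conj]
    exact h.meet_data (stronglyEmbedded_stabilizer hM y) hE' hw hwy
  have hfixed : ∀ t : G, orderOf t = 2 → ∃ y : G ⧸ M, t • y = y := by
    intro t ht
    obtain ⟨i, hi, hi2⟩ := Invol.exists_involution_of_even hM.2.1
    obtain ⟨g, hg⟩ := isConj_iff.1 (Invol.se_isConj hM hi2 ht)
    refine ⟨QuotientGroup.mk g, ?_⟩
    rw [Invol.smul_coset_eq_iff, ← hg]
    simpa [mul_assoc] using hi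
  obtain ⟨hn, -⟩ := h.elem_data hM hE
  obtain ⟨u, huM, hu2⟩ := Invol.se_exists_outside hM
  set y₀ : G ⧸ M := QuotientGroup.mk 1
  have huy : u • y₀ ≠ y₀ := fun e => huM (Invol.smul_coset_one_eq.1 e)
  obtain ⟨hDp, hDi⟩ := hpair y₀ u hu2 huy
  obtain ⟨x, hxD, hx1⟩ : ∃ x ∈ MulAction.stabilizer G y₀ ⊓ MulAction.stabilizer G (u • y₀), x ≠ 1 := by
    haveI : Nontrivial (MulAction.stabilizer G y₀ ⊓ MulAction.stabilizer G (u • y₀) : Subgroup G) :=
      Finite.one_lt_card_iff_nontrivial.1 (hDp ▸ h.prime.one_lt)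
    obtain ⟨x, hx⟩ := exists_ne (1 : (MulAction.stabilizer G y₀ ⊓ MulAction.stabilizer G (u • y₀) :
      Subgroup G))
    exact ⟨x, x.2, fun e => hx (Subtype.ext e)⟩
  have hxu : u * x * u⁻¹ = x⁻¹ := hDi x hxD
  have hxord : orderOf x = p :=
    ((Nat.dvd_prime h.prime).1 (hDp ▸ Subgroup.orderOf_dvd_natCard _ hxD)).resolve_left
      fun e => hx1 (orderOf_eq_one_iff.1 e)
  have hxodd : Odd (orderOf x) := by rw [hxord]; exact h.prime.odd_of_ne_two h.ne_two
  set C := Subgroup.centralizer ({x} : Set G)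
  -- `C` is odd
  have hCodd : Odd (Nat.card C) := by
    refine Nat.not_even_iff_odd.1 fun he => ?_
    obtain ⟨v, hv, hv2⟩ := Invol.exists_involution_of_even he
    obtain ⟨y, hy⟩ := hfixed v hv2
    obtain ⟨E', hE'⟩ := hstab y
    have hM' := stronglyEmbedded_stabilizer hM y
    have hvy : v ∈ MulAction.stabilizer G y := hy
    have hxv : Commute x v := (Subgroup.mem_centralizer_singleton_iff.1 hv).symm
    have hxy := Invol.se_centralizer hM' hvy hv2 hxv
    obtain ⟨-, hcen', -⟩ := h.elem_data hM' hE'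
    have hu : u ∈ MulAction.stabilizer G y := by
      refine h.normalizer_le_of_commute hM' hE' hx1 (hcen' x hxy v hvy hv2 hxv)
        (Subgroup.mem_normalizer_fintype ?_)
      rintro _ ⟨i, rfl⟩
      show u * x ^ i * u⁻¹ ∈ Subgroup.zpowers x
      rw [← conj_zpow, hxu]
      exact zpow_mem (inv_mem (Subgroup.mem_zpowers x)) i
    exact hx1 (hE'.eq_one hu hu2 hxy hxodd hxu)
  -- `C` fixes the points fixed by `x`
  have hCle : ∀ y : G ⧸ M, x • y = y → C ≤ MulAction.stabilizer G y := by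
    intro y hxy c hc
    by_contra hcy
    have hcy' : y ≠ c • y := fun e => hcy e.symm
    have hswap := (Invol.se_swap hM hcy').1
    rw [hn] at hswap
    haveI : Nonempty (Invol.SwapSet M y (c • y)) :=
      (Nat.card_pos_iff.1 (hswap ▸ h.prime.pos)).1
    obtain ⟨w, hw2, hwy⟩ := Classical.arbitrary (Invol.SwapSet M y (c • y))
    have hxc : x * c = c * x := (Subgroup.mem_centralizer_singleton_iff.1 hc).symm
    have hwx : w * x * w⁻¹ = x⁻¹ :=
      (hpair y w hw2 (hwy ▸ fun e => hcy' e.symm)).2 x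
        ⟨hxy, by
          show x • (w • y) = w • y
          rw [hwy, ← mul_smul, hxc, mul_smul, hxy]⟩
    have hwC : ∀ d ∈ C, w * d * w⁻¹ ∈ C := by
      intro d hd
      refine Subgroup.mem_centralizer_singleton_iff.2 ?_
      have hd' : d * x⁻¹ = x⁻¹ * d :=
        (Commute.inv_right (Subgroup.mem_centralizer_singleton_iff.1 hd : Commute d x)).eq
      have hwx' : w * x⁻¹ * w⁻¹ = x := by rw [← conj_inv, hwx, inv_inv]
      calc w * d * w⁻¹ * x = w * d * w⁻¹ * (w * x⁻¹ * w⁻¹) := by rw [hwx']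
        _ = w * (d * x⁻¹) * w⁻¹ := by group
        _ = w * (x⁻¹ * d) * w⁻¹ := by rw [hd']
        _ = w * x⁻¹ * w⁻¹ * (w * d * w⁻¹) := by group
        _ = x * (w * d * w⁻¹) := by rw [hwx']
    have hmem : ∀ z ∈ MulAction.orbit C y, w • z ∈ MulAction.orbit C y := by
      rintro z ⟨⟨d, hd⟩, rfl⟩
      refine ⟨⟨w * d * w⁻¹ * c, mul_mem (hwC d hd) hc⟩, ?_⟩
      show (w * d * w⁻¹ * c) • y = w • (d • y)
      rw [mul_smul, ← hwy, ← mul_smul, inv_mul_cancel_right, mul_smul]
    let σ : Equiv.Perm (MulAction.orbit C y) :=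
      Function.Involutive.toPerm (fun z => ⟨w • z.1, hmem z.1 z.2⟩)
        fun z => Subtype.ext (by
          show w • w • z.1 = z.1
          rw [← mul_smul, Invol.inv_mul_self hw2, one_smul])
    haveI : Fintype (MulAction.orbit C y) := Fintype.ofFinite _
    haveI : Fact (Nat.Prime 2) := ⟨Nat.prime_two⟩
    obtain ⟨⟨z, d, rfl⟩, hz⟩ := Equiv.Perm.exists_fixed_point_of_prime (p := 2) (n := 1) (σ := σ)
      (fun hd => Nat.not_even_iff_odd.2 (hCodd.of_dvd_nat (Subgroup.index_dvd_card _))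
        (even_iff_two_dvd.2 (by
          rw [MulAction.index_stabilizer C y, ← Nat.card_coe_set_eq, Nat.card_eq_fintype_card]
          exact hd)))
      (by
        refine Equiv.ext fun z => ?_
        rw [pow_one, pow_two]
        exact Subtype.ext (by
          show w • w • z.1 = z.1
          rw [← mul_smul, Invol.inv_mul_self hw2, one_smul]))
    have hwz : w • ((d : G) • y) = (d : G) • y := congrArg Subtype.val hz
    have hxz : x • ((d : G) • y) = (d : G) • y := by
      have hxd : x * (d : G) = d * x := (Subgroup.mem_centralizer_singleton_iff.1 d.2).symm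
      rw [← mul_smul, hxd, mul_smul, hxy]
    obtain ⟨E', hE'⟩ := hstab ((d : G) • y)
    exact hx1 (hE'.eq_one hwz hw2 hxz hxodd hwx)
  have hCp : Nat.card C = p := by
    refine le_antisymm (hDp ▸ Subgroup.card_le_of_le (le_inf (hCle _ hxD.1) (hCle _ hxD.2))) ?_
    rw [← hxord, ← Nat.card_zpowers]
    exact Subgroup.card_le_of_le
      (Subgroup.zpowers_le.2 (Subgroup.mem_centralizer_singleton_iff.2 rfl))
  -- a Sylow subgroup has order `p`
  have hxpg : IsPGroup p (Subgroup.zpowers x) :=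
    IsPGroup.of_card (n := 1) (by rw [Nat.card_zpowers, hxord, pow_one])
  obtain ⟨P, hP⟩ := hxpg.exists_le_sylow
  have hxP : x ∈ (P : Subgroup G) := hP (Subgroup.mem_zpowers x)
  have hPC : (P : Subgroup G) ≤ C := by
    haveI : Nontrivial P :=
      (Subgroup.nontrivial_iff_ne_bot _).2 fun e => hx1 (Subgroup.mem_bot.1 (e.le hxP))
    haveI := P.isPGroup'.center_nontrivial
    obtain ⟨z, hz⟩ := exists_ne (1 : Subgroup.center (P : Subgroup G))
    have hzC : ((z : P) : G) ∈ C := Subgroup.mem_centralizer_singleton_iff.2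
      (congrArg Subtype.val (Subgroup.mem_center_iff.1 z.2 ⟨x, hxP⟩)).symm
    intro g hg
    have hzg : g * ((z : P) : G) = (z : P) * g :=
      congrArg Subtype.val (Subgroup.mem_center_iff.1 z.2 ⟨g, hg⟩)
    obtain ⟨i, hi⟩ := mem_zpowers_of_prime_card hCp (g := (⟨_, hzC⟩ : C))
      (g' := ⟨x, Subgroup.mem_centralizer_singleton_iff.2 rfl⟩) fun e => hz
        (Subtype.ext (Subtype.ext ((congrArg Subtype.val e :) : ((z : P) : G) = 1)))
    have hi' : ((z : P) : G) ^ i = x := congrArg Subtype.val hi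
    refine Subgroup.mem_centralizer_singleton_iff.2 ?_
    rw [← hi']
    exact ((show Commute g ((z : P) : G) from hzg).zpow_right i).eq
  -- elements of p-power order
  have hpfix : ∀ g : G, (∃ k, orderOf g = p ^ k) → ∃ y : G ⧸ M, g • y = y := by
    rintro g ⟨k, hk⟩
    obtain ⟨Q, hQ⟩ :=
      (IsPGroup.of_card (n := k) (by rw [Nat.card_zpowers, hk]) :
        IsPGroup p (Subgroup.zpowers g)).exists_le_sylow
    obtain ⟨c, hc⟩ := MulAction.exists_smul_eq G Q P
    refine ⟨c⁻¹ • y₀, ?_⟩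
    have hmem : c * g * c⁻¹ ∈ MulAction.stabilizer G y₀ := by
      refine hCle _ hxD.1 (hPC ?_)
      rw [← hc, Sylow.coe_subgroup_smul]
      exact ⟨g, hQ (Subgroup.mem_zpowers g), by simp [MulAut.smul_def]⟩
    have e : (c * g * c⁻¹) • y₀ = y₀ := hmem
    rw [eq_inv_smul_iff, ← mul_smul, ← mul_smul]
    exact e
  -- the count
  obtain ⟨yu, hyu⟩ := hfixed u hu2
  let P' := {z : G ⧸ M // z ≠ yu}
  haveI : Fintype P' := Fintype.ofFinite _
  haveI : Nonempty P' := ⟨⟨y₀, fun e => huy (by rw [e]; exact hyu)⟩⟩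
  let V₀ := {v : G // orderOf v = 2 ∧ v • yu ≠ yu}
  have hV : Nat.card V₀ = Fintype.card P' * p := by
    let f : (Σ z : P', Invol.FixSet M z.1) → V₀ := fun t =>
      ⟨t.2.1, t.2.2.1, fun e => t.1.2 (Invol.se_fixed_unique hM t.2.2.1 t.2.2.2 e)⟩
    have hf : Function.Bijective f := by
      constructor
      · rintro ⟨⟨a, ha⟩, s, hs, hsa⟩ ⟨⟨b, hb⟩, t, ht, htb⟩ e
        have e' : s = t := congrArg Subtype.val e
        subst e'
        obtain rfl := Invol.se_fixed_unique hM hs hsa htb
        rfl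
      · rintro ⟨v, hv2, hv⟩
        obtain ⟨y, hy⟩ := hfixed v hv2
        exact ⟨⟨⟨y, fun e => hv (e ▸ hy)⟩, v, hv2, hy⟩, rfl⟩
    rw [← Nat.card_eq_of_bijective f hf, Nat.card_sigma]
    simp only [Invol.card_fixSet, hn, Finset.sum_const, Finset.card_univ, smul_eq_mul]
  let T : P' → Type u := fun z => {d : G //
    d ∈ MulAction.stabilizer G z.1 ⊓ MulAction.stabilizer G (u • z.1) ∧ d ≠ 1}
  have hT : Nat.card (Σ z, T z) = Fintype.card P' * (p - 1) := by
    have hz : ∀ z : P', Nat.card (T z) = p - 1 := by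
      intro z
      set U := MulAction.stabilizer G z.1 ⊓ MulAction.stabilizer G (u • z.1)
      have hU : Nat.card U = p :=
        (hpair z.1 u hu2 fun e => z.2 (Invol.se_fixed_unique hM hu2 e hyu)).1
      haveI : Fintype U := Fintype.ofFinite _
      rw [← hU, Nat.card_eq_fintype_card (α := U), ← Fintype.card_subtype_eq (1 : U),
        ← Fintype.card_subtype_compl, ← Nat.card_eq_fintype_card]
      exact Nat.card_congr
        { toFun := fun d => ⟨⟨d.1, d.2.1⟩, fun e => d.2.2 (congrArg Subtype.val e)⟩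
          invFun := fun d => ⟨d.1.1, d.1.2, fun e => d.2 (Subtype.ext e)⟩
          left_inv := fun d => rfl
          right_inv := fun d => rfl }
    rw [Nat.card_sigma]
    simp only [hz, Finset.sum_const, Finset.card_univ, smul_eq_mul]
  have hkey : ∀ v : V₀, ∃ z : P', u * v.1 ∈
      MulAction.stabilizer G z.1 ⊓ MulAction.stabilizer G (u • z.1) ∧ u * v.1 ≠ 1 := by
    rintro ⟨v, hv2, hv⟩
    show ∃ z : P', u * v ∈ MulAction.stabilizer G z.1 ⊓ MulAction.stabilizer G (u • z.1) ∧ u * v ≠ 1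
    have hne : u * v ≠ 1 := fun e => hv (by
      rw [eq_inv_of_mul_eq_one_right e, Invol.inv_eq_self hu2]; exact hyu)
    have hodd : Odd (orderOf (u * v)) :=
      Invol.se_odd_product (stronglyEmbedded_stabilizer hM yu) hyu hu2 hv hv2
    have hinv : u * (u * v) * u⁻¹ = (u * v)⁻¹ := by
      rw [mul_inv_rev, Invol.inv_eq_self hv2, Invol.inv_eq_self hu2, ← mul_assoc,
        Invol.inv_mul_self hu2, one_mul]
    have hpow : ∃ k, orderOf (u * v) = p ^ k := by
      refine ⟨_, Nat.eq_prime_pow_of_unique_prime_dvd (orderOf_pos _).ne' ?_⟩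
      intro r hr hrd
      by_contra hrp
      set y := (u * v) ^ (orderOf (u * v) / r)
      have hy : orderOf y = r := orderOf_pow_orderOf_div (orderOf_pos _).ne' hrd
      have hy1 : y = 1 := h.not_inverted (y := y) (w := u) (by rw [hy]; exact hodd.of_dvd_nat hrd)
        (by rw [hy]; exact (Nat.coprime_primes hr h.prime).2 hrp) hu2
        (by rw [← conj_pow, hinv, inv_pow])
      rw [hy1, orderOf_one] at hy
      exact hr.ne_one hy.symm
    obtain ⟨z, hz⟩ := hpfix _ hpow
    have hzu : z ≠ yu := by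
      rintro rfl
      apply hv
      have e : v = u * (u * v) := by rw [← mul_assoc, Invol.inv_mul_self hu2, one_mul]
      rw [e, mul_smul, hz, hyu]
    refine ⟨⟨z, hzu⟩, ⟨hz, ?_⟩, hne⟩
    show (u * v) • (u • z) = u • z
    have e2 : u * v * u = u * (u * v)⁻¹ := by
      rw [mul_inv_rev, Invol.inv_eq_self hv2, Invol.inv_eq_self hu2, mul_assoc]
    rw [← mul_smul, e2, mul_smul, inv_smul_eq_iff.2 hz.symm]
  choose g hg using hkey
  have hle : Nat.card V₀ ≤ Nat.card (Σ z, T z) :=
    Nat.card_le_card_of_injective (fun v => ⟨g v, u * v.1, hg v⟩) fun a b e => Subtype.ext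
      (mul_left_cancel (congrArg (fun t : Σ z, T z => t.2.1) e))
  rw [hV, hT] at hle
  have := Nat.le_of_mul_le_mul_left hle Fintype.card_pos
  have := h.prime.pos
  omega

end Min

end Cfsg.Lib.PNil
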