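import Cfsg.Agent.Lib.PNil.Signalizer
import Cfsg.Agent.Lib.Coprime.Action

/-!
# A strongly embedded subgroup of a minimal counterexample

The number of its involutions is a power of `p`, it contains an elementary abelian group of order
eight, and every proper subgroup meeting it in a four-group lies in it.
-/

set_option autoImplicit false
set_option linter.style.haveILetI false
set_option linter.unusedSectionVars false

namespace Cfsg.Lib.PNil

open Cfsg.Lib

universe u

variable {p : ℕ} {G : Type u} [Group G] [Finite G]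

/-- The elements of an odd order subgroup inverted by an involution are as many as the cosets of the
centralizer of the involution. -/
theorem card_inverted_eq (σ : G →* G) (hσ : ∀ x, σ (σ x) = x) (D : Subgroup G)
    (hD : ∀ x ∈ D, σ x ∈ D) (hodd : Odd (Nat.card D)) (C : Subgroup D)
    (hC : ∀ d : D, d ∈ C ↔ σ (d : G) = d) :
    Nat.card {d : G // d ∈ D ∧ σ d = d⁻¹} = C.index := by
  let g : D → {d : G // d ∈ D ∧ σ d = d⁻¹} := fun d =>
    ⟨(d : G) * σ (d : G)⁻¹, mul_mem d.2 (hD _ (inv_mem d.2)), by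
      rw [map_mul, hσ, map_inv, mul_inv_rev, inv_inv]⟩
  have hg : ∀ a b : D, g a = g b ↔ b⁻¹ * a ∈ C := by
    intro a b
    simp only [g, Subtype.mk.injEq, hC, Subgroup.coe_mul, InvMemClass.coe_inv, map_mul, map_inv]
    constructor
    · intro e
      calc (σ (b : G))⁻¹ * σ (a : G)
          = (b : G)⁻¹ * ((b : G) * (σ (b : G))⁻¹) * σ (a : G) := by group
        _ = (b : G)⁻¹ * ((a : G) * (σ (a : G))⁻¹) * σ (a : G) := by rw [e]
        _ = (b : G)⁻¹ * a := by group
    · intro e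
      calc (a : G) * (σ (a : G))⁻¹ = (b : G) * ((b : G)⁻¹ * a) * (σ (a : G))⁻¹ := by group
        _ = (b : G) * ((σ (b : G))⁻¹ * σ (a : G)) * (σ (a : G))⁻¹ := by rw [e]
        _ = (b : G) * (σ (b : G))⁻¹ := by group
  let f : D ⧸ C → {d : G // d ∈ D ∧ σ d = d⁻¹} := Quotient.lift g fun a b hab => by
    exact ((hg b a).2 (QuotientGroup.leftRel_apply.1 hab)).symm
  refine (Nat.card_eq_of_bijective f ⟨?_, ?_⟩).symm
  · intro a b
    induction a using QuotientGroup.induction_on
    induction b using QuotientGroup.induction_on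
    intro e
    rw [QuotientGroup.eq]
    exact (hg _ _).1 e.symm
  · rintro ⟨j, hj, hσj⟩
    obtain ⟨t, ht⟩ := hodd.of_dvd_nat (Subgroup.orderOf_dvd_natCard D hj)
    refine ⟨QuotientGroup.mk ⟨j ^ (t + 1), pow_mem hj _⟩, Subtype.ext ?_⟩
    show j ^ (t + 1) * σ (j ^ (t + 1))⁻¹ = j
    rw [map_inv, map_pow, hσj, inv_pow, inv_inv, ← pow_add,
      show t + 1 + (t + 1) = orderOf j + 1 by omega, pow_succ, pow_orderOf_eq_one, one_mul]

namespace Min

variable (h : Min p G) {M : Subgroup G} (hM : Cfsg.IsStronglyEmbedded M)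
include h hM

theorem solvable_se : Group.IsSolvable M := h.solvable M hM.1

theorem inverted_pow {u d : G} (hu : orderOf u = 2) (huM : u ∉ M)
    (hd : d ∈ M ⊓ M.map (MulAut.conj u).toMonoidHom) (hdi : u * d * u⁻¹ = d⁻¹) :
    ∃ k, orderOf d = p ^ k := by
  refine ⟨_, Nat.eq_prime_pow_of_unique_prime_dvd (orderOf_pos d).ne' ?_⟩
  intro r hr hrd
  by_contra hrp
  set y := d ^ (orderOf d / r)
  have hy : orderOf y = r := orderOf_pow_orderOf_div (orderOf_pos d).ne' hrd
  have hr_odd : Odd r :=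
    (hM.2.2 u huM).of_dvd_nat (hrd.trans (Subgroup.orderOf_dvd_natCard _ hd))
  have hy1 : y = 1 := h.not_inverted (y := y) (w := u) (by rwa [hy])
    (by rw [hy]; exact (Nat.coprime_primes hr h.prime).2 hrp) hu
    (by rw [← conj_pow, hdi, inv_pow])
  rw [hy1, orderOf_one] at hy
  exact hr.ne_one hy.symm

omit h in
/-- The involutions of `M` are as many as the elements of `D` inverted by an involution outside. -/
theorem card_inverted {u : G} (hu2 : orderOf u = 2) (huM : u ∉ M) :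
    Nat.card {t : G // orderOf t = 2 ∧ t ∈ M} =
      Nat.card {d : G // d ∈ M ⊓ M.map (MulAut.conj u).toMonoidHom ∧ u * d * u⁻¹ = d⁻¹} := by
  have huu : u * u = 1 := Invol.inv_mul_self hu2
  have hui : u⁻¹ = u := Invol.inv_eq_self hu2
  have hx : (QuotientGroup.mk 1 : G ⧸ M) ≠ QuotientGroup.mk u := fun e =>
    huM (by simpa [QuotientGroup.eq] using e)
  have hswap : ∀ w : G, orderOf w = 2 → ((w • (QuotientGroup.mk 1 : G ⧸ M) = QuotientGroup.mk u) ↔
      u * w ∈ M) := by
    intro w hw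
    rw [MulAction.Quotient.smul_mk, QuotientGroup.eq, smul_eq_mul, mul_one,
      Invol.inv_eq_self hw, ← M.inv_mem_iff, mul_inv_rev, hui, Invol.inv_eq_self hw]
  rw [← (Invol.se_swap hM hx).1]
  refine Nat.card_congr
    { toFun := fun w => ⟨w.1 * u, ?_⟩
      invFun := fun d => ⟨d.1 * u, ?_⟩
      left_inv := fun w => Subtype.ext (by show w.1 * u * u = w.1; rw [mul_assoc, huu, mul_one])
      right_inv := fun d => Subtype.ext (by show d.1 * u * u = d.1; rw [mul_assoc, huu, mul_one]) }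
  · have h1 := (hswap w.1 w.2.1).1 w.2.2
    have e2 : (w.1 * u)⁻¹ = u * w.1 := by rw [mul_inv_rev, hui, Invol.inv_eq_self w.2.1]
    have e1 : u * (w.1 * u) * u⁻¹ = u * w.1 := by group
    exact ⟨⟨by rw [← inv_inv (w.1 * u), e2]; exact M.inv_mem h1,
      Invol.mem_conjMap.2 (by rw [hui, mul_assoc, mul_assoc w.1, huu, mul_one]; exact h1)⟩,
      e1.trans e2.symm⟩
  · have h1 : d.1 ∈ M := d.2.1.1
    have e : u * d.1 * u = d.1⁻¹ :=
      (congrArg (fun z => u * d.1 * z) hui.symm).trans d.2.2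
    have hw : orderOf (d.1 * u) = 2 := Invol.orderOf_eq_two_of
      (fun e' => huM (by rw [eq_inv_of_mul_eq_one_right e']; exact inv_mem h1))
      (by rw [show d.1 * u * (d.1 * u) = d.1 * (u * d.1 * u) by group, e, mul_inv_cancel])
    exact ⟨hw, (hswap _ hw).2 (by rw [← mul_assoc, e]; exact inv_mem h1)⟩

/-- The number of involutions of `M` is a power of `p`. -/
theorem card_invol_pow : ∃ k, Nat.card {t : G // orderOf t = 2 ∧ t ∈ M} = p ^ k := by
  obtain ⟨u, huM, hu2⟩ := Invol.se_exists_outside hM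
  have huu : u * u = 1 := Invol.inv_mul_self hu2
  have hui : u⁻¹ = u := Invol.inv_eq_self hu2
  set σ : G →* G := (MulAut.conj u).toMonoidHom
  have hσe : ∀ x, σ x = u * x * u := fun x => by simp [σ, hui]
  have hσ : ∀ x, σ (σ x) = x := fun x => by
    rw [hσe, hσe, show u * (u * x * u) * u = (u * u) * x * (u * u) by group, huu, one_mul, mul_one]
  have hcard : Nat.card {t : G // orderOf t = 2 ∧ t ∈ M}
      = Nat.card {d : G // d ∈ M ⊓ M.map σ ∧ σ d = d⁻¹} := card_inverted hM hu2 huM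
  set D := M ⊓ M.map σ
  have hDodd : Odd (Nat.card D) := hM.2.2 u huM
  have hDσ : ∀ x ∈ D, σ x ∈ D := by
    rintro x ⟨hx, y, hy, rfl⟩
    exact ⟨by rw [hσ]; exact hy, _, hx, rfl⟩
  set C : Subgroup D := (Subgroup.centralizer ({u} : Set G)).subgroupOf D
  have hC : ∀ d : D, d ∈ C ↔ σ (d : G) = d := by
    intro d
    rw [Subgroup.mem_subgroupOf, Subgroup.mem_centralizer_singleton_iff]
    show (d : G) * u = u * d ↔ u * d * u⁻¹ = d
    rw [mul_inv_eq_iff_eq_mul]
    exact eq_comm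
  rw [hcard, card_inverted_eq σ hσ D hDσ hDodd C hC]
  refine ⟨_, Nat.eq_prime_pow_of_unique_prime_dvd C.index_ne_zero_of_finite ?_⟩
  intro r hr hrd
  by_contra hrp
  haveI := Fact.mk hr
  have hA : Subgroup.zpowers u ≤ Subgroup.normalizer (D : Set G) := by
    rw [Subgroup.zpowers_le]
    exact Subgroup.mem_normalizer_fintype fun z hz => hDσ z hz
  obtain ⟨R, hR⟩ := Coprime.exists_invariant_sylow hA
    (by rw [Nat.card_zpowers, hu2]; exact hDodd.coprime_two_left)
    (Or.inr (Cfsg.Agent.S0205.result hDodd)) r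
  have hc := h.centralizes (R := (R : Subgroup D).map D.subtype) (w := u)
    (by
      rw [Subgroup.card_map_of_injective D.subtype_injective]
      exact hDodd.of_dvd_nat (Subgroup.card_subgroup_dvd_card _))
    (by
      rw [Subgroup.card_map_of_injective D.subtype_injective, R.card_eq_multiplicity]
      exact Nat.Coprime.pow_left _ ((Nat.coprime_primes hr h.prime).2 hrp))
    ⟨1, by rw [hu2, pow_one]⟩ (hR (Subgroup.mem_zpowers u))
  refine R.not_dvd_index (hrd.trans (Subgroup.index_dvd_of_le fun d hd => (hC d).2 ?_))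
  have := Subgroup.mem_centralizer_iff.1 hc (d : G) ⟨d, hd, rfl⟩
  show u * (d : G) * u⁻¹ = d
  rw [← this, mul_inv_cancel_right]

/-- `M` contains an elementary abelian group of order at least eight. -/
theorem exists_eight : ∃ A : Subgroup G, A ≤ M ∧ (∀ a ∈ A, a * a = 1) ∧ 8 ≤ Nat.card A := by
  haveI : Fact (Nat.Prime 2) := ⟨Nat.prime_two⟩
  obtain ⟨S, A, -, -, hA, hA8⟩ := h.exists_normal_eight
  obtain ⟨i, hi, hi2⟩ := Invol.exists_involution_of_even hM.2.1
  haveI : Nontrivial A := Finite.one_lt_card_iff_nontrivial.1 (by omega)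
  obtain ⟨a, ha⟩ := exists_ne (1 : A)
  have ha2 : orderOf (a : G) = 2 :=
    Invol.orderOf_eq_two_of (fun e => ha (Subtype.ext e)) (hA a a.2)
  obtain ⟨g, hg⟩ := isConj_iff.1 (Invol.se_isConj hM ha2 hi2)
  refine ⟨A.map (MulAut.conj g).toMonoidHom, ?_, ?_, ?_⟩
  · rintro _ ⟨b, hb, rfl⟩
    refine Invol.se_centralizer hM hi hi2 ?_
    rw [← hg]
    exact (commute_of_sq hA hb a.2).map (MulAut.conj g).toMonoidHom
  · rintro _ ⟨b, hb, rfl⟩
    rw [← map_mul, hA b hb, map_one]
  · rwa [Subgroup.card_map_of_injective (MulAut.conj g).injective]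

/-- A proper subgroup containing a four-group of `M` lies in `M`. -/
theorem le_of_four {L V : Subgroup G} (hL : L ≠ ⊤) (hVL : V ≤ L) (hVM : V ≤ M)
    (hV : ∀ v ∈ V, v * v = 1) (hV4 : 4 ≤ Nat.card V) : L ≤ M := by
  haveI : Fact (Nat.Prime 2) := ⟨Nat.prime_two⟩
  haveI := h.solvable L hL
  have hinv : ∀ v ∈ V, v ≠ 1 → orderOf v = 2 := fun v hv h1 => Invol.orderOf_eq_two_of h1 (hV v hv)
  -- the odd core
  have hO : coreOf L ≤ M := by
    refine (le_iSup_of_four hV hV4 (hVL.trans (le_normalizer_coreOf L)) (coreOf_odd L)).trans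
      (iSup_le fun v x hx => ?_)
    exact Invol.se_centralizer hM (hVM v.2.1) (hinv _ v.2.1 v.2.2)
      (Subgroup.mem_centralizer_singleton_iff.1 hx.2)
  obtain ⟨Q, hQ⟩ := ((isPGroup_of_sq hV).comap_of_injective L.subtype L.subtype_injective
    : IsPGroup 2 (V.comap L.subtype)).exists_le_sylow
  haveI : Nontrivial V := Finite.one_lt_card_iff_nontrivial.1 (by omega)
  obtain ⟨v, hv⟩ := exists_ne (1 : V)
  have hv2 : orderOf (v : G) = 2 := hinv v v.2 fun e => hv (Subtype.ext e)
  set vL : L := ⟨v, hVL v.2⟩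
  have hvQ : vL ∈ (Q : Subgroup L) := hQ (Subgroup.mem_comap.2 v.2)
  -- central involutions
  have hcentral : ∀ T : Subgroup L, T ≠ ⊥ → IsPGroup 2 T →
      ∃ z ∈ T, orderOf z = 2 ∧ ∀ x ∈ T, Commute x z := by
    intro T hT hTp
    haveI : Nontrivial T := (Subgroup.nontrivial_iff_ne_bot _).2 hT
    haveI := hTp.center_nontrivial
    obtain ⟨k, hk⟩ := IsPGroup.iff_card.1 (hTp.to_subgroup (Subgroup.center T))
    have hk0 : k ≠ 0 := fun e => by
      rw [e, pow_zero] at hk
      exact absurd hk (ne_of_gt Finite.one_lt_card)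
    obtain ⟨c, hc⟩ := exists_prime_orderOf_dvd_card' (G := Subgroup.center T) 2
      (hk ▸ dvd_pow_self 2 hk0)
    refine ⟨((c : T) : L), (c : T).2, ?_, fun x hx => ?_⟩
    · rw [Subgroup.orderOf_coe, Subgroup.orderOf_coe, hc]
    · exact congrArg Subtype.val (Subgroup.mem_center_iff.1 c.2 ⟨x, hx⟩)
  have hQne : (Q : Subgroup L) ≠ ⊥ := fun e =>
    hv (Subtype.ext (congrArg Subtype.val (Subgroup.mem_bot.1 (e.le hvQ) : vL = 1) :))
  obtain ⟨z, hzQ, hz2, hzc⟩ := hcentral _ hQne Q.isPGroup'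
  have hzM : (z : G) ∈ M :=
    Invol.se_centralizer hM (hVM v.2) hv2 ((hzc vL hvQ).symm.map L.subtype)
  have hQM : ∀ x ∈ (Q : Subgroup L), (x : G) ∈ M := fun x hx =>
    Invol.se_centralizer hM hzM (by rw [Subgroup.orderOf_coe, hz2]) ((hzc x hx).map L.subtype)
  set f := QuotientGroup.mk' (Cfsg.oddCore L)
  haveI : Group.IsSolvable (L ⧸ Cfsg.oddCore L) :=
    Group.isSolvable_of_surjective (QuotientGroup.mk'_surjective _)
  have hne : twoPart Q ≠ ⊥ := by
    intro e
    have hT : Cfsg.pCore 2 (L ⧸ Cfsg.oddCore L) = ⊥ := by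
      rw [← twoPart_map Q, e, Subgroup.map_bot]
    have hself := Core.centralizer_pCore_le_of_isPSolvable (p := 2) (G := L ⧸ Cfsg.oddCore L)
      Core.isPSolvable_of_isSolvable Core.pPrimeCore_quotient_eq_bot
    have h1 : f vL = 1 := by
      refine Subgroup.mem_bot.1 ((hself.trans hT.le) (Subgroup.mem_centralizer_iff.2 fun t ht => ?_))
      rw [hT, SetLike.mem_coe, Subgroup.mem_bot] at ht
      rw [ht, one_mul, mul_one]
    have h2 : Odd (orderOf vL) := ZStar.odd_orderOf_oddCore ((QuotientGroup.eq_one_iff vL).1 h1)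
    rw [show orderOf vL = 2 by rw [Subgroup.orderOf_mk]; exact hv2] at h2
    exact absurd h2 (by decide)
  obtain ⟨z', hz'T, hz'2, -⟩ := hcentral _ hne (Q.isPGroup'.to_le inf_le_left)
  intro x hx
  obtain ⟨o, ho, hl⟩ := twoPart_frattini Q ⟨x, hx⟩
  have hmem : ((o * ⟨x, hx⟩ : L) : G) ∈ M := by
    refine Invol.se_mem hM (hQM z' hz'T.1) (by rw [Subgroup.orderOf_coe, hz'2]) ?_
    exact hQM _ (hl z' hz'T).1
  have := mul_mem (inv_mem (hO ⟨o, ho, rfl⟩)) hmem
  rwa [Subgroup.coe_mul, Subgroup.coe_subtype, inv_mul_cancel_left] at this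

end Min

end Cfsg.Lib.PNil
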