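import Cfsg.Agent.Lib.Solv.Hall
import Cfsg.Agent.Lib.Core.Cores
import Cfsg.Agent.Lib.Core.PSolvable
import Cfsg.Agent.Lib.PGroup.Elements
import Cfsg.Prelude.Def_CaseTheorems
import Cfsg.Prelude.Def_LocalEven

/-!
# Groups all of whose p'-subgroups are nilpotent

`Hyp p G` is the hypothesis, `Min p G` the minimal counterexample. The basic consequences: a
p'-section of a solvable subgroup is nilpotent, odd p'-elements of a solvable subgroup lie in its odd
core, and no involution inverts an odd p'-element.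
-/

set_option autoImplicit false
set_option linter.style.haveILetI false
set_option linter.unusedSectionVars false

namespace Cfsg.Lib.PNil

open scoped Pointwise

universe u v

/-- All p'-subgroups are nilpotent. -/
structure Hyp (p : ℕ) (G : Type u) [Group G] : Prop where
  prime : p.Prime
  gt : 3 < p
  nilp : ∀ H : Subgroup G, (Nat.card H).Coprime p → Group.IsNilpotent H

/-- A minimal counterexample. -/
structure Min (p : ℕ) (G : Type u) [Group G] : Prop extends Hyp p G where
  simple : IsSimpleGroup G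
  noncomm : ¬ IsMulCommutative G
  solvable : ∀ U : Subgroup G, U ≠ ⊤ → Group.IsSolvable ↥U

variable {p : ℕ} {G : Type u} [Group G] [Finite G]

theorem card_sup_dvd {A B : Subgroup G} (hle : B ≤ Subgroup.normalizer (A : Set G)) :
    Nat.card (A ⊔ B : Subgroup G) ∣ Nat.card A * Nat.card B := by
  set H := A ⊔ B
  haveI : (A.subgroupOf H).Normal :=
    Subgroup.normal_subgroupOf_of_le_normalizer (sup_le Subgroup.le_normalizer hle)
  rw [← Subgroup.card_mul_index (A.subgroupOf H),
    Nat.card_congr (Subgroup.subgroupOfEquivOfLe (le_sup_left : A ≤ H)).toEquiv]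
  refine mul_dvd_mul_left _ (Subgroup.card_dvd_of_surjective ((QuotientGroup.mk' (A.subgroupOf H)).comp
    (Subgroup.inclusion (le_sup_right : B ≤ H))) fun x => ?_)
  obtain ⟨z, rfl⟩ := QuotientGroup.mk'_surjective _ x
  have hz : (z : G) ∈ ((B : Set G) * (A : Set G)) := by
    rw [← Subgroup.coe_mul_of_left_le_normalizer_right _ _ hle, sup_comm]
    exact z.2
  obtain ⟨b, hb, a, ha, e⟩ := hz
  refine ⟨⟨b, hb⟩, ?_⟩
  rw [MonoidHom.comp_apply, QuotientGroup.mk'_eq_mk']
  exact ⟨⟨a, le_sup_left (b := B) ha⟩, Subgroup.mem_subgroupOf.2 ha, Subtype.ext (by simpa using e)⟩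

theorem coprime_of_sq {w : G} (hw : ∃ k : ℕ, orderOf w = 2 ^ k) {n : ℕ} (hn : Odd n) :
    (orderOf w).Coprime n := by
  obtain ⟨k, hk⟩ := hw
  rw [hk]
  exact Nat.Coprime.pow_left k hn.coprime_two_left

namespace Hyp

variable (h : Hyp p G)
include h

theorem fact : Fact p.Prime := ⟨h.prime⟩

theorem ne_two : p ≠ 2 := by have := h.gt; omega

theorem coprime_two_pow (k : ℕ) : (2 ^ k).Coprime p :=
  Nat.Coprime.pow_left k ((Nat.coprime_primes Nat.prime_two h.prime).2 h.ne_two.symm)

theorem commute_of_coprime {H : Subgroup G} (hH : (Nat.card H).Coprime p) {a b : G} (ha : a ∈ H)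
    (hb : b ∈ H) (hab : (orderOf a).Coprime (orderOf b)) : Commute a b := by
  haveI := h.nilp H hH
  exact congrArg Subtype.val (PGroup.commute_of_coprime_orderOf (⟨a, ha⟩ : H) ⟨b, hb⟩
    (by rwa [Subgroup.orderOf_mk, Subgroup.orderOf_mk])).eq

/-- A 2-element normalizing an odd p'-subgroup centralizes it. -/
theorem centralizes {R : Subgroup G} (hodd : Odd (Nat.card R)) (hR : (Nat.card R).Coprime p) {w : G}
    (hw : ∃ k : ℕ, orderOf w = 2 ^ k) (hn : w ∈ Subgroup.normalizer (R : Set G)) :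
    w ∈ Subgroup.centralizer (R : Set G) := by
  refine Subgroup.mem_centralizer_iff.2 fun a ha => ?_
  have hH : (Nat.card (R ⊔ Subgroup.zpowers w : Subgroup G)).Coprime p := by
    refine Nat.Coprime.coprime_dvd_left (card_sup_dvd (Subgroup.zpowers_le.2 hn)) (hR.mul_left ?_)
    obtain ⟨k, hk⟩ := hw
    rw [Nat.card_zpowers, hk]
    exact h.coprime_two_pow k
  exact (h.commute_of_coprime hH (le_sup_left (b := Subgroup.zpowers w) ha)
    (le_sup_right (a := R) (Subgroup.mem_zpowers w))
    (coprime_of_sq hw (hodd.of_dvd_nat (Subgroup.orderOf_dvd_natCard R ha))).symm).eq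

/-- An involution inverts no odd p'-element. -/
theorem not_inverted {y w : G} (hodd : Odd (orderOf y)) (hy : (orderOf y).Coprime p)
    (hw : orderOf w = 2) (hwy : w * y * w⁻¹ = y⁻¹) : y = 1 := by
  have hn : w ∈ Subgroup.normalizer ((Subgroup.zpowers y : Subgroup G) : Set G) := by
    refine Subgroup.mem_normalizer_fintype fun z hz => ?_
    obtain ⟨i, rfl⟩ := hz
    show w * y ^ i * w⁻¹ ∈ (Subgroup.zpowers y : Set G)
    rw [← conj_zpow, hwy]
    exact zpow_mem (inv_mem (Subgroup.mem_zpowers y)) i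
  have hc := Subgroup.mem_centralizer_iff.1 (h.centralizes (by rwa [Nat.card_zpowers])
    (by rwa [Nat.card_zpowers]) ⟨1, by rw [hw, pow_one]⟩ hn) y (Subgroup.mem_zpowers y)
  rw [← hc, mul_inv_cancel_right] at hwy
  have h2 : orderOf y ∣ 2 := orderOf_dvd_of_pow_eq_one (by
    rw [pow_two]; nth_rw 1 [hwy]; exact inv_mul_cancel y)
  exact orderOf_eq_one_iff.1 (Nat.Coprime.eq_one_of_dvd hodd.coprime_two_right h2)

theorem subgroup (U : Subgroup G) : Hyp p ↥U where
  prime := h.prime
  gt := h.gt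
  nilp H hH := by
    haveI := h.nilp (H.map U.subtype)
      (by rwa [Subgroup.card_map_of_injective U.subtype_injective])
    exact Group.nilpotent_of_mulEquiv (H.equivMapOfInjective U.subtype U.subtype_injective).symm

/-- A p'-image of a solvable subgroup is nilpotent. -/
theorem section_nilpotent {X : Type v} [Group X] (K : Subgroup G) [Group.IsSolvable K] (f : K →* X)
    (hf : Function.Surjective f) (hX : (Nat.card X).Coprime p) : Group.IsNilpotent X := by
  obtain ⟨H, hH1, hH2⟩ := Cfsg.Lib.Solv.exists_isPiHall {q : ℕ | q ≠ p} K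
  have hcop : (Nat.card H).Coprime p := Nat.coprime_of_dvd fun q hq h1 h2 =>
    hH1 q hq h1 ((Nat.prime_dvd_prime_iff_eq hq h.prime).1 h2)
  haveI := (h.subgroup K).nilp H hcop
  haveI : Finite X := Finite.of_surjective f hf
  have htop : H.map f = ⊤ := by
    rw [← Subgroup.index_eq_one]
    by_contra hne
    obtain ⟨q, hq, hqd⟩ := Nat.exists_prime_and_dvd hne
    have hqp : q ≠ p := fun e => by
      subst e
      exact (Nat.Prime.coprime_iff_not_dvd hq).1 hX.symm (hqd.trans (Subgroup.index_dvd_card _))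
    exact hH2 q hq hqp (hqd.trans (Subgroup.index_map_dvd H hf))
  exact Group.nilpotent_of_surjective (f.comp H.subtype) (fun x => by
    obtain ⟨y, hy, rfl⟩ := htop.ge (Subgroup.mem_top x)
    exact ⟨⟨y, hy⟩, rfl⟩)

/-- An odd p'-element of a solvable group lies in its odd core. -/
theorem odd_mem_core [Group.IsSolvable G] {y : G} (hodd : Odd (orderOf y)) (hy : (orderOf y).Coprime p) :
    y ∈ Cfsg.oddCore G := by
  haveI : Fact (Nat.Prime 2) := ⟨Nat.prime_two⟩
  set f := QuotientGroup.mk' (Cfsg.oddCore G)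
  set X := G ⧸ Cfsg.oddCore G
  set T := Cfsg.pCore 2 X
  have hT : IsPGroup 2 T := Core.pCore_isPGroup 2 X
  haveI : Group.IsSolvable X := Group.isSolvable_of_surjective (QuotientGroup.mk'_surjective _)
  have hself : Subgroup.centralizer (T : Set X) ≤ T :=
    Core.centralizer_pCore_le_of_isPSolvable Core.isPSolvable_of_isSolvable
      Core.pPrimeCore_quotient_eq_bot
  set H := T ⊔ Subgroup.zpowers (f y)
  have hd : Nat.card H ∣ Nat.card T * Nat.card (Subgroup.zpowers (f y)) :=
    card_sup_dvd (fun z _ => by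
      rw [Subgroup.normalizer_eq_top_iff.2 (inferInstance : T.Normal)]; exact Subgroup.mem_top z)
  have hfy : orderOf (f y) ∣ orderOf y := orderOf_map_dvd f y
  have hcop : (Nat.card H).Coprime p := by
    refine Nat.Coprime.coprime_dvd_left hd (Nat.Coprime.mul_left ?_ ?_)
    · obtain ⟨k, hk⟩ := IsPGroup.iff_card.1 hT
      rw [hk]; exact h.coprime_two_pow k
    · rw [Nat.card_zpowers]; exact hy.coprime_dvd_left hfy
  haveI := h.section_nilpotent (H.comap f) (f.subgroupComap H)
    (f.subgroupComap_surjective_of_surjective H (QuotientGroup.mk'_surjective _)) hcop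
  have hc : f y ∈ Subgroup.centralizer (T : Set X) := by
    refine Subgroup.mem_centralizer_iff.2 fun t ht => ?_
    have htH : t ∈ H := le_sup_left (b := Subgroup.zpowers (f y)) ht
    have hyH : f y ∈ H := le_sup_right (a := T) (Subgroup.mem_zpowers _)
    obtain ⟨k, hk⟩ := IsPGroup.iff_orderOf.1 hT ⟨t, ht⟩
    rw [Subgroup.orderOf_mk] at hk
    exact congrArg Subtype.val (PGroup.commute_of_coprime_orderOf (⟨t, htH⟩ : H) ⟨f y, hyH⟩ (by
      rw [Subgroup.orderOf_mk, Subgroup.orderOf_mk]
      exact coprime_of_sq ⟨k, hk⟩ (hodd.of_dvd_nat hfy))).eq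
  obtain ⟨k, hk⟩ := IsPGroup.iff_orderOf.1 hT ⟨f y, hself hc⟩
  rw [Subgroup.orderOf_mk] at hk
  have h1 : orderOf (f y) = 1 := by
    refine Nat.eq_one_of_dvd_coprimes (coprime_of_sq ⟨k, hk⟩ hodd) dvd_rfl hfy
  exact (QuotientGroup.eq_one_iff y).1 (orderOf_eq_one_iff.1 h1)

end Hyp

theorem coe_normal_commute {K A B : Subgroup G} (hA : K ≤ Subgroup.normalizer (A : Set G))
    (hB : K ≤ Subgroup.normalizer (B : Set G)) (hAK : A ≤ K) (hBK : B ≤ K)
    (hcop : (Nat.card A).Coprime (Nat.card B)) {a b : G} (ha : a ∈ A) (hb : b ∈ B) : Commute a b := by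
  have h1 : a * b * a⁻¹ * b⁻¹ ∈ A := by
    rw [show a * b * a⁻¹ * b⁻¹ = a * (b * a⁻¹ * b⁻¹) by group]
    exact mul_mem ha ((Subgroup.mem_normalizer_iff.1 (hA (hBK hb)) _).1 (inv_mem ha))
  have h2 : a * b * a⁻¹ * b⁻¹ ∈ B :=
    mul_mem ((Subgroup.mem_normalizer_iff.1 (hB (hAK ha)) _).1 hb) (inv_mem hb)
  have h3 := Subgroup.disjoint_def.1 (Subgroup.disjoint_of_coprime_natCard hcop) h1 h2
  rwa [mul_inv_eq_one, mul_inv_eq_iff_eq_mul] at h3

end Cfsg.Lib.PNil
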