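import Cfsg.Agent.Lib.Core.Cores
import Cfsg.Agent.Lib.Core.PSolvable
import Cfsg.Agent.S3370
import Mathlib.GroupTheory.Perm.Cycle.Type

/-!
# Solvable groups transitive on the involutions of an elementary abelian group

If such a group has its odd p'-elements in the kernel and the number of involutions divides a power
of `p`, then it induces a group of order `p` acting regularly.
-/

set_option autoImplicit false
set_option linter.style.haveILetI false
set_option linter.unusedSectionVars false

namespace Cfsg.Lib.PNil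

universe u v

variable {V : Type v} [Group V] [Finite V]

theorem sq_comm_type (hV : ∀ a : V, a * a = 1) (a b : V) : a * b = b * a := by
  have h1 : ∀ a : V, a = a⁻¹ := fun a => eq_inv_of_mul_eq_one_left (hV a)
  calc a * b = (a * b)⁻¹ := h1 _
    _ = b⁻¹ * a⁻¹ := mul_inv_rev a b
    _ = b * a := by rw [← h1 a, ← h1 b]

variable {p : ℕ}

/-- A faithful solvable `{2, p}`-group of automorphisms transitive on the `p` nontrivial elements. -/
theorem card_eq_of_faithful (R : Subgroup (MulAut V)) [Group.IsSolvable R] (hV : ∀ a : V, a * a = 1)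
    (h8 : 8 ≤ Nat.card V) (hp : p.Prime) (hp2 : p ≠ 2) (hVp : Nat.card V = p + 1)
    (htr : ∀ a b : V, a ≠ 1 → b ≠ 1 → ∃ r ∈ R, r a = b)
    (hprimes : ∀ q, q.Prime → q ∣ Nat.card R → q = 2 ∨ q = p) :
    Nat.card R = p := by
  classical
  haveI := Fact.mk hp
  haveI : Fact (Nat.Prime 2) := ⟨Nat.prime_two⟩
  haveI : Fintype V := Fintype.ofFinite V
  let P := {a : V // a ≠ 1}
  letI : MulAction (MulAut V) P :=
    { smul := fun r a => ⟨r a.1, fun e => a.2 (r.injective (e.trans (map_one r).symm))⟩
      one_smul := fun a => Subtype.ext rfl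
      mul_smul := fun r s a => Subtype.ext rfl }
  have hP : Nat.card P = p := by
    rw [Nat.card_eq_fintype_card, Fintype.card_subtype_compl, Fintype.card_subtype_eq,
      ← Nat.card_eq_fintype_card, hVp]
    omega
  have hsmul : ∀ (r : MulAut V) (a : P), ((r • a : P) : V) = r a.1 := fun r a => rfl
  have hfaith : ∀ r : MulAut V, (∀ a : P, r • a = a) → r = 1 := fun r hr => by
    refine MulEquiv.ext fun a => ?_
    by_cases ha : a = 1
    · rw [ha, map_one, map_one]
    · exact congrArg Subtype.val (hr ⟨a, ha⟩)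
  -- a normal subgroup with a fixed point is trivial
  have hfix : ∀ N : Subgroup R, N.Normal → ∀ a : P, (∀ n ∈ N, (n : MulAut V) • a = a) → N = ⊥ := by
    intro N hN a ha
    refine (Subgroup.eq_bot_iff_forall _).2 fun n hn => Subtype.ext (hfaith _ fun b => ?_)
    obtain ⟨r, hr, hrb⟩ := htr a b a.2 b.2
    have hb : b = (r : MulAut V) • a := Subtype.ext hrb.symm
    have := ha _ (hN.conj_mem n hn (⟨r, hr⟩⁻¹ : R))
    rw [inv_inv, Subgroup.coe_mul, Subgroup.coe_mul, InvMemClass.coe_inv, mul_smul, mul_smul,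
      ← hb] at this
    rw [← smul_left_cancel_iff r⁻¹, this, hb, inv_smul_smul]
  have hne : Nontrivial R := by
    by_contra hc
    rw [not_nontrivial_iff_subsingleton] at hc
    have h2 : 1 < Nat.card P := by rw [hP]; exact hp.one_lt
    rw [Finite.one_lt_card_iff_nontrivial] at h2
    obtain ⟨a, b, hab⟩ := h2.exists_pair_ne
    obtain ⟨r, hr, hrb⟩ := htr a b a.2 b.2
    have : (⟨r, hr⟩ : R) = 1 := Subsingleton.elim _ _
    have hr1 : r = 1 := congrArg Subtype.val this
    exact hab (Subtype.ext (by rw [← hrb, hr1]; rfl))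
  -- no normal 2-subgroup
  have h2core : ∀ N : Subgroup R, N.Normal → IsPGroup 2 N → N = ⊥ := by
    intro N hN h2
    obtain ⟨a, ha⟩ := h2.nonempty_fixed_point_of_prime_not_dvd_card P
      (by rw [hP]; exact fun hd => hp2 ((Nat.prime_dvd_prime_iff_eq Nat.prime_two hp).1 hd).symm)
    exact hfix N hN a fun n hn => ha ⟨n, hn⟩
  have hcore : Cfsg.pPrimeCore p R = ⊥ := by
    refine h2core _ inferInstance (IsPGroup.iff_card.2 ⟨_, Nat.eq_prime_pow_of_unique_prime_dvd
      Nat.card_pos.ne' fun {q} hq hqd => ?_⟩)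
    refine (hprimes q hq (hqd.trans (Subgroup.card_subgroup_dvd_card _))).resolve_right ?_
    rintro rfl
    exact (Nat.Prime.coprime_iff_not_dvd hq).1 (Core.pPrimeCore_coprime q R).symm hqd
  set N := Cfsg.pCore p R
  have hNp : IsPGroup p N := Core.pCore_isPGroup p R
  have hself : Subgroup.centralizer (N : Set R) ≤ N :=
    Core.centralizer_pCore_le_of_isPSolvable Core.isPSolvable_of_isSolvable hcore
  have hNne : N ≠ ⊥ := Core.pCore_ne_bot_of_isPSolvable Core.isPSolvable_of_isSolvable hcore
  -- every p-subgroup has order dividing p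
  have hsmall : ∀ U : Subgroup R, IsPGroup p U → Nat.card U ∣ p := by
    intro U hU
    obtain ⟨k, hk⟩ := IsPGroup.iff_card.1 hU
    have hinj : Function.Injective
        ((MulAction.toPermHom (MulAut V) P).comp (R.subtype.comp U.subtype)) := by
      refine (injective_iff_map_eq_one _).2 fun x hx => ?_
      exact Subtype.ext (Subtype.ext (hfaith _ fun a => Equiv.ext_iff.1 hx a))
    have hd := Subgroup.card_dvd_of_injective _ hinj
    rw [Nat.card_perm, hP, hk] at hd
    rw [hk]
    rcases Nat.lt_or_ge k 2 with h | h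
    · interval_cases k
      · simp
      · simp
    · exfalso
      have h1 : p ^ 2 ∣ Nat.factorial p := (pow_dvd_pow p h).trans hd
      rw [← Nat.mul_factorial_pred hp.ne_zero, pow_two] at h1
      have h2 := Nat.dvd_of_mul_dvd_mul_left hp.pos h1
      rw [hp.dvd_factorial] at h2
      have := hp.pos
      omega
  have hNcard : Nat.card N = p :=
    ((Nat.dvd_prime hp).1 (hsmall N hNp)).resolve_left fun e =>
      hNne (Subgroup.eq_bot_of_card_eq N e)
  haveI : IsCyclic N := isCyclic_of_prime_card hNcard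
  have hNcomm : ∀ a b : R, a ∈ N → b ∈ N → a * b = b * a := fun a b ha hb =>
    congrArg Subtype.val ((IsCyclic.isMulCommutative (α := N)).is_comm.comm ⟨a, ha⟩ ⟨b, hb⟩)
  -- `N` is regular
  have hreg : ∀ n ∈ N, ∀ a : P, (n : MulAut V) • a = a → n = 1 := by
    intro n hn a ha
    by_contra hn1
    have htop : ∀ m ∈ N, (m : MulAut V) • a = a := by
      intro m hm
      obtain ⟨i, hi⟩ := mem_zpowers_of_prime_card hNcard
        (g := (⟨n, hn⟩ : N)) (g' := ⟨m, hm⟩) (fun e => hn1 (congrArg Subtype.val e))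
      have hi' : (n : R) ^ i = m := congrArg Subtype.val hi
      have hst : (n : MulAut V) ∈ MulAction.stabilizer (MulAut V) a := ha
      rw [← hi', SubgroupClass.coe_zpow]
      exact zpow_mem hst i
    exact hNne (hfix N inferInstance a htop)
  have htrans : ∀ a b : P, ∃ n ∈ N, (n : MulAut V) • a = b := by
    intro a
    let f : N → P := fun n => ((n : R) : MulAut V) • a
    have hf : Function.Injective f := by
      intro m n e
      have e' : (((n : R)⁻¹ * (m : R) : R) : MulAut V) • a = a := by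
        rw [Subgroup.coe_mul, InvMemClass.coe_inv, mul_smul]
        exact inv_smul_eq_iff.2 e
      exact Subtype.ext (inv_mul_eq_one.1 (hreg _ (mul_mem (inv_mem n.2) m.2) a e')).symm
    haveI : Fintype N := Fintype.ofFinite N
    have hb := ((Fintype.bijective_iff_injective_and_card f).2 ⟨hf,
      by rw [← Nat.card_eq_fintype_card, ← Nat.card_eq_fintype_card, hNcard, hP]⟩).2
    intro b
    obtain ⟨n, hn⟩ := hb b
    exact ⟨n, n.2, hn⟩
  -- no involution
  have hodd : ¬ 2 ∣ Nat.card R := by
    intro hd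
    obtain ⟨τ, hτ⟩ := exists_prime_orderOf_dvd_card' (G := R) 2 hd
    have hττ : τ * τ = 1 := by rw [← pow_two, ← hτ, pow_orderOf_eq_one]
    have hτ1 : τ ≠ 1 := fun e => by rw [e, orderOf_one] at hτ; exact absurd hτ (by norm_num)
    have hτinv : τ⁻¹ = τ := inv_eq_of_mul_eq_one_right hττ
    have hinv : ∀ n ∈ N, τ * n * τ = n⁻¹ := by
      intro n hn
      by_contra hni
      set m := n * (τ * n * τ)
      have hτn : τ * n * τ ∈ N := by
        have := (inferInstance : N.Normal).conj_mem n hn τ
        rwa [hτinv] at this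
      have hm : m ∈ N := mul_mem hn hτn
      have hm1 : m ≠ 1 := fun e => hni (eq_inv_of_mul_eq_one_right e)
      have hmτ : τ * m = m * τ := by
        calc τ * m = τ * n * τ * n * τ := by simp only [m, mul_assoc]
          _ = (τ * n * τ) * n * τ := by simp only [mul_assoc]
          _ = n * (τ * n * τ) * τ := by rw [hNcomm _ _ hτn hn]
      refine hτ1 ?_
      have hτN : τ ∈ N := hself (Subgroup.mem_centralizer_iff.2 fun k hk => by
        obtain ⟨i, hi⟩ := mem_zpowers_of_prime_card hNcard
          (g := (⟨m, hm⟩ : N)) (g' := ⟨k, hk⟩) (fun e => hm1 (congrArg Subtype.val e))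
        have hi' : m ^ i = k := congrArg Subtype.val hi
        rw [← hi']
        exact ((show Commute τ m from hmτ).zpow_right i).eq.symm)
      obtain ⟨k, hk⟩ := IsPGroup.iff_orderOf.1 hNp ⟨τ, hτN⟩
      rw [Subgroup.orderOf_mk, hτ] at hk
      rcases Nat.eq_zero_or_pos k with rfl | hk0
      · simp at hk
      · exact absurd ((Nat.prime_dvd_prime_iff_eq hp Nat.prime_two).1
          (hk ▸ dvd_pow_self p hk0.ne')) hp2
    have hτp : IsPGroup 2 (Subgroup.zpowers τ) :=
      IsPGroup.of_card (n := 1) (by rw [Nat.card_zpowers, hτ, pow_one])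
    obtain ⟨a, ha'⟩ := hτp.nonempty_fixed_point_of_prime_not_dvd_card P
      (by rw [hP]; exact fun hd => hp2 ((Nat.prime_dvd_prime_iff_eq Nat.prime_two hp).1 hd).symm)
    have ha : (τ : MulAut V) • a = a := ha' ⟨τ, Subgroup.mem_zpowers τ⟩
    have huniq : ∀ b : P, (τ : MulAut V) • b = b → b = a := by
      intro b hb
      obtain ⟨n, hn, rfl⟩ := htrans a b
      have h1 : ((τ * n * τ : R) : MulAut V) • a = (n : MulAut V) • a := by
        rw [Subgroup.coe_mul, Subgroup.coe_mul, mul_smul, mul_smul, ha]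
        exact hb
      rw [hinv n hn, InvMemClass.coe_inv, inv_smul_eq_iff, ← mul_smul, ← Subgroup.coe_mul] at h1
      have h2 := hreg _ (mul_mem hn hn) a h1.symm
      have h3 : orderOf n ∣ 2 := orderOf_dvd_of_pow_eq_one (by rw [pow_two]; exact h2)
      have h4 : orderOf n ∣ p := hNcard ▸ Subgroup.orderOf_dvd_natCard N hn
      rw [orderOf_eq_one_iff.1 (Nat.eq_one_of_dvd_coprimes
        ((Nat.coprime_primes Nat.prime_two hp).2 (Ne.symm hp2)) h3 h4), Subgroup.coe_one, one_smul]
    -- the linear map `a ↦ a * τ a`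
    set σ : MulAut V := (τ : MulAut V)
    have hσσ : ∀ x, σ (σ x) = x := fun x => DFunLike.congr_fun (congrArg Subtype.val hττ) x
    let L : V →* V := MonoidHom.mk' (fun x => x * σ x) fun x y => by
      show x * y * σ (x * y) = x * σ x * (y * σ y)
      rw [map_mul, mul_assoc x, ← mul_assoc y, sq_comm_type hV y (σ x)]
      group
    have hLs : ∀ x, σ x = x → x = 1 ∨ x = a.1 := by
      intro x hx
      by_cases hx1 : x = 1
      · exact Or.inl hx1
      · exact Or.inr (congrArg Subtype.val (huniq ⟨x, hx1⟩ (Subtype.ext hx)))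
    have hker : (L.ker : Set V) ⊆ {1, a.1} := by
      intro x hx
      have hx' : x * σ x = 1 := hx
      refine hLs x ?_
      rw [eq_inv_of_mul_eq_one_right hx', inv_eq_of_mul_eq_one_right (hV x)]
    have hrange : (L.range : Set V) ⊆ {1, a.1} := by
      rintro _ ⟨x, rfl⟩
      refine hLs _ ?_
      show σ (x * σ x) = x * σ x
      rw [map_mul, hσσ, sq_comm_type hV]
    have hle : ∀ U : Subgroup V, (U : Set V) ⊆ {1, a.1} → Nat.card U ≤ 2 := by
      intro U hU
      rw [← SetLike.coe_sort_coe, Nat.card_coe_set_eq]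
      exact (Set.ncard_le_ncard hU).trans ((Set.ncard_insert_le _ _).trans (by simp))
    have hcard : Nat.card L.range * Nat.card L.ker = Nat.card V := by
      rw [← Subgroup.index_ker, Subgroup.index_mul_card]
    have h4 : Nat.card L.range * Nat.card L.ker ≤ 4 := Nat.mul_le_mul (hle _ hrange) (hle _ hker)
    omega
  have hR : IsPGroup p (⊤ : Subgroup R) := by
    refine IsPGroup.iff_card.2 ⟨_, Subgroup.card_top.trans
      (Nat.eq_prime_pow_of_unique_prime_dvd Nat.card_pos.ne' fun {q} hq hqd =>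
        (hprimes q hq hqd).resolve_left fun e => hodd (e ▸ hqd))⟩
  have h := hsmall ⊤ hR
  rw [Subgroup.card_top] at h
  exact ((Nat.dvd_prime hp).1 h).resolve_left Finite.one_lt_card.ne'

/-- The kernel of a solvable group transitive on the involutions has index `p`. -/
theorem kernel_index {X : Type u} [Group X] [Finite X] [Group.IsSolvable X] (φ : X →* MulAut V)
    (hV : ∀ a : V, a * a = 1) (h8 : 8 ≤ Nat.card V)
    (htr : ∀ a b : V, a ≠ 1 → b ≠ 1 → ∃ x, φ x a = b) (hp : p.Prime)
    (hn : ∃ k, Nat.card V - 1 ∣ p ^ k)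
    (hodd : ∀ x, Odd (orderOf x) → (orderOf x).Coprime p → φ x = 1) :
    φ.ker.index = p ∧ Nat.card V = p + 1 ∧ ∀ x, ∀ a : V, a ≠ 1 → φ x a = a → φ x = 1 := by
  haveI := Fact.mk hp
  haveI : Fact (Nat.Prime 2) := ⟨Nat.prime_two⟩
  obtain ⟨m, hm⟩ : ∃ m, Nat.card V = 2 ^ m := IsPGroup.iff_card.1 (fun a : V => ⟨1, by
    rw [pow_one, pow_two, hV]⟩)
  obtain ⟨k, hk⟩ := hn
  obtain ⟨j, -, hj⟩ := (Nat.dvd_prime_pow hp).1 hk
  have hm2 : 2 ≤ m := by
    by_contra hc
    have : 2 ^ m ≤ 2 ^ 1 := Nat.pow_le_pow_right two_pos (by omega)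
    omega
  have hj1 : 1 ≤ j := by
    by_contra hc
    rw [Nat.lt_one_iff.1 (not_le.1 hc), pow_zero] at hj
    omega
  have hsum : p ^ j + 1 = 2 ^ m := by omega
  have hj' := Cfsg.Agent.S3370.two_pow_sub_one hp hj1 hm2 hsum
  subst hj'
  have hp2 : p ≠ 2 := by
    rintro rfl
    rw [pow_one] at hj
    omega
  rw [pow_one] at hj
  have hVp : Nat.card V = p + 1 := by omega
  haveI : Group.IsSolvable φ.range := Group.isSolvable_of_surjective φ.rangeRestrict_surjective
  have hcard : Nat.card φ.range = p := by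
    refine card_eq_of_faithful φ.range hV h8 hp hp2 hVp (fun a b ha hb => ?_) fun q hq hqd => ?_
    · obtain ⟨x, hx⟩ := htr a b ha hb
      exact ⟨φ x, ⟨x, rfl⟩, hx⟩
    · by_contra hc
      push Not at hc
      haveI := Fact.mk hq
      obtain ⟨r, hr⟩ := exists_prime_orderOf_dvd_card' q hqd
      obtain ⟨y, hy⟩ := r.2
      -- the q-part of a preimage
      have hy0 : orderOf y ≠ 0 := (orderOf_pos y).ne'
      obtain ⟨i, l, hl, hil⟩ := Nat.exists_eq_pow_mul_and_not_dvd hy0 q hq.ne_one
      have hl0 : l ≠ 0 := fun e => hl (by rw [e]; exact dvd_zero q)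
      have hyl : orderOf (y ^ l) = q ^ i := by
        rw [orderOf_pow_of_dvd hl0 (hil ▸ dvd_mul_left l _), hil,
          Nat.mul_div_cancel _ (Nat.pos_of_ne_zero hl0)]
      have h1 := hodd (y ^ l) (by rw [hyl]; exact (hq.odd_of_ne_two hc.1).pow)
        (by rw [hyl]; exact Nat.Coprime.pow_left i ((Nat.coprime_primes hq hp).2 hc.2))
      rw [map_pow, hy] at h1
      rw [← Subgroup.orderOf_coe] at hr
      exact hl (hr ▸ orderOf_dvd_of_pow_eq_one h1)
  refine ⟨by rw [Subgroup.index_ker, hcard], hVp, fun x a ha hx => ?_⟩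
  by_contra hne
  have hall : ∀ y : X, φ y a = a := by
    intro y
    obtain ⟨i, hi⟩ := mem_zpowers_of_prime_card hcard (g := (⟨φ x, ⟨x, rfl⟩⟩ : φ.range))
      (g' := ⟨φ y, ⟨y, rfl⟩⟩) (fun e => hne (congrArg Subtype.val e))
    have hi' : φ x ^ i = φ y := congrArg Subtype.val hi
    have hst : φ x ∈ MulAction.stabilizer (MulAut V) a := hx
    have h2 : φ x ^ i ∈ MulAction.stabilizer (MulAut V) a := zpow_mem hst i
    rw [hi'] at h2
    exact h2
  classical
  haveI : Fintype V := Fintype.ofFinite V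
  obtain ⟨b, hb, hba⟩ : ∃ b : V, b ≠ 1 ∧ b ≠ a := by
    by_contra hc
    push Not at hc
    have hsub : (Finset.univ : Finset V) ⊆ {1, a} := fun b _ => by
      simp only [Finset.mem_insert, Finset.mem_singleton]
      exact (em (b = 1)).imp id (hc b)
    have := (Finset.card_le_card hsub).trans Finset.card_le_two
    rw [Finset.card_univ, ← Nat.card_eq_fintype_card] at this
    omega
  obtain ⟨y, hy⟩ := htr a b ha hb
  exact hba (hy.symm.trans (hall y))

end Cfsg.Lib.PNil
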