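import Cfsg.Agent.Lib.PNil.Count
import Cfsg.Agent.Lib.PNil.Point

/-!
# The kernel of a strongly embedded subgroup on its involutions

A strongly embedded subgroup `M` has a normal subgroup of index `p` containing the centralizers of
all its involutions in `M`, and not containing `M ⊓ Mᵘ`.
-/

set_option autoImplicit false
set_option linter.style.haveILetI false
set_option linter.unusedSectionVars false

namespace Cfsg.Lib.PNil

open Cfsg.Lib

universe u

variable {p : ℕ} {G : Type u} [Group G] [Finite G]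

theorem stronglyEmbedded_map {M : Subgroup G} (hM : Cfsg.IsStronglyEmbedded M) (e : G ≃* G) :
    Cfsg.IsStronglyEmbedded (M.map e.toMonoidHom) := by
  have hne : M.map e.toMonoidHom ≠ ⊤ := fun he =>
    hM.1 (Subgroup.map_injective (f := e.toMonoidHom) e.injective
      (he.trans (Subgroup.map_top_of_surjective _ e.surjective).symm))
  refine (Invol.stronglyEmbedded_iff hne (by
    rw [Subgroup.card_map_of_injective e.injective]; exact hM.2.1)).2 ?_
  rintro _ ⟨t, ht, rfl⟩ ht2 g hg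
  obtain ⟨g', rfl⟩ := e.surjective g
  obtain ⟨s, hs, hse⟩ := hg
  refine ⟨g', Invol.se_mem hM ht (by
    rwa [orderOf_injective e.toMonoidHom e.injective] at ht2) ?_, rfl⟩
  have hse' : e s = e g' * e t * (e g')⁻¹ := hse
  rw [← map_inv, ← map_mul, ← map_mul] at hse'
  exact e.injective hse' ▸ hs

theorem stabilizer_mk (M : Subgroup G) (g : G) :
    MulAction.stabilizer G (QuotientGroup.mk g : G ⧸ M) = M.map (MulAut.conj g).toMonoidHom := by
  ext x
  rw [MulAction.mem_stabilizer_iff, Invol.smul_coset_eq_iff, Invol.mem_conjMap]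

theorem stronglyEmbedded_stabilizer {M : Subgroup G} (hM : Cfsg.IsStronglyEmbedded M) (y : G ⧸ M) :
    Cfsg.IsStronglyEmbedded (MulAction.stabilizer G y) := by
  obtain ⟨g, rfl⟩ := QuotientGroup.mk_surjective y
  rw [stabilizer_mk]
  exact stronglyEmbedded_map hM _

namespace Min

variable (h : Min p G) {M : Subgroup G} (hM : Cfsg.IsStronglyEmbedded M)
include h hM

theorem exists_kernel : ∃ K : Subgroup M, K.Normal ∧ K.index = p ∧
    (∀ m i : M, orderOf i = 2 → Commute m i → m ∈ K) ∧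
    ∀ u : G, orderOf u = 2 → u ∉ M →
      ∃ d : M, (d : G) ∈ M ⊓ M.map (MulAut.conj u).toMonoidHom ∧ d ∉ K := by
  haveI : Fact (Nat.Prime 2) := ⟨Nat.prime_two⟩
  haveI := h.solvable M hM.1
  set f := QuotientGroup.mk' (Cfsg.oddCore M)
  haveI : Group.IsSolvable (M ⧸ Cfsg.oddCore M) :=
    Group.isSolvable_of_surjective (QuotientGroup.mk'_surjective _)
  set T := Cfsg.pCore 2 (M ⧸ Cfsg.oddCore M)
  have hT : IsPGroup 2 T := Core.pCore_isPGroup 2 _
  set E := invCenter T
  haveI hE : E.Normal := ⟨fun x hx g => invCenter_conj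
    (by rw [Subgroup.normalizer_eq_top_iff.2 (inferInstance : T.Normal)]; exact Subgroup.mem_top g) hx⟩
  -- a 2-element of the odd core is trivial
  have h2O : ∀ y : M, y ∈ Cfsg.oddCore M → (∃ k, orderOf y = 2 ^ k) → y = 1 := fun y hy hk =>
    orderOf_eq_one_iff.1 (Nat.eq_one_of_dvd_coprimes
      (coprime_of_sq hk (ZStar.odd_orderOf_oddCore hy)) dvd_rfl dvd_rfl)
  have hf : ∀ i : M, orderOf i = 2 → f i ≠ 1 := fun i hi e =>
    Invol.ne_one hi (h2O i ((QuotientGroup.eq_one_iff i).1 e) ⟨1, by rw [hi, pow_one]⟩)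
  have hlift : ∀ x : M ⧸ Cfsg.oddCore M, x ≠ 1 → x * x = 1 → ∃ i : M, orderOf i = 2 ∧ f i = x := by
    intro x hx1 hxx
    obtain ⟨w, rfl⟩ := QuotientGroup.mk'_surjective _ x
    obtain ⟨i, l, hl, hil⟩ := Nat.exists_eq_pow_mul_and_not_dvd (orderOf_pos w).ne' 2 (by norm_num)
    obtain ⟨j, hj⟩ : Odd l := Nat.not_even_iff_odd.1 fun he => hl (even_iff_two_dvd.1 he)
    have hfy : f (w ^ l) = f w := by
      rw [map_pow, hj, pow_succ, pow_mul, pow_two, hxx, one_pow, one_mul]
    have hy : orderOf (w ^ l) = 2 ^ i := by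
      rw [orderOf_pow_of_dvd (by omega) (hil ▸ dvd_mul_left l _), hil,
        Nat.mul_div_cancel _ (by omega)]
    refine ⟨w ^ l, Invol.orderOf_eq_two_of (fun e => hx1 (by rw [← hfy, e, map_one])) ?_, hfy⟩
    refine h2O _ ((QuotientGroup.eq_one_iff _).1 ?_) ?_
    · show f (w ^ l * w ^ l) = 1
      rw [map_mul, hfy, hxx]
    · obtain ⟨k, -, hk⟩ := (Nat.dvd_prime_pow Nat.prime_two).1
        (hy ▸ (orderOf_pow_dvd (x := w ^ l) 2))
      exact ⟨k, by rw [← pow_two]; exact hk⟩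
  -- all involutions are conjugate in `M`
  obtain ⟨u₀, hu₀, hu₀2⟩ := Invol.se_exists_outside hM
  have hconj : ∀ u : G, orderOf u = 2 → u ∉ M → ∀ s t : M, orderOf s = 2 → orderOf t = 2 →
      ∃ d : M, (d : G) ∈ M ⊓ M.map (MulAut.conj u).toMonoidHom ∧ d * s * d⁻¹ = t := by
    intro u hu huM s t hs ht
    obtain ⟨d, hd, hdt⟩ := Invol.se_transitive hM hu huM (s := (s : G)) (t := (t : G))
      (by rwa [Subgroup.orderOf_coe]) s.2 (by rwa [Subgroup.orderOf_coe]) t.2
    exact ⟨⟨d, hd.1⟩, hd, Subtype.ext hdt⟩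
  -- the involutions of the quotient lie in `E`
  obtain ⟨i₀, hi₀', hi₀2'⟩ := Invol.exists_involution_of_even hM.2.1
  set i₀ : M := ⟨i₀, hi₀'⟩
  have hi₀2 : orderOf i₀ = 2 := by rw [Subgroup.orderOf_mk]; exact hi₀2'
  have hTne : T ≠ ⊥ := by
    intro e
    have hself := Core.centralizer_pCore_le_of_isPSolvable (p := 2) (G := M ⧸ Cfsg.oddCore M)
      Core.isPSolvable_of_isSolvable Core.pPrimeCore_quotient_eq_bot
    refine hf i₀ hi₀2 (Subgroup.mem_bot.1 ((hself.trans e.le)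
      (Subgroup.mem_centralizer_iff.2 fun t ht => ?_)))
    have ht' : t = 1 := Subgroup.mem_bot.1 (e.le ht)
    rw [ht', one_mul, mul_one]
  obtain ⟨e₀, he₀, he₀1⟩ : ∃ e ∈ E, e ≠ 1 := by
    haveI : Nontrivial T := (Subgroup.nontrivial_iff_ne_bot _).2 hTne
    haveI := hT.center_nontrivial
    obtain ⟨k, hk⟩ := IsPGroup.iff_card.1 (hT.to_subgroup (Subgroup.center T))
    have hk0 : k ≠ 0 := fun e => by
      rw [e, pow_zero] at hk
      exact absurd hk (ne_of_gt Finite.one_lt_card)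
    obtain ⟨c, hc⟩ := exists_prime_orderOf_dvd_card' (G := Subgroup.center T) 2
      (hk ▸ dvd_pow_self 2 hk0)
    have hc2 : orderOf ((c : T) : M ⧸ Cfsg.oddCore M) = 2 := by
      rw [Subgroup.orderOf_coe, Subgroup.orderOf_coe, hc]
    exact ⟨((c : T) : M ⧸ Cfsg.oddCore M), ⟨(c : T).2, Invol.inv_mul_self hc2, fun y hy =>
      congrArg Subtype.val (Subgroup.mem_center_iff.1 c.2 ⟨y, hy⟩).symm⟩, Invol.ne_one hc2⟩
  obtain ⟨j₀, hj₀, hj₀e⟩ := hlift e₀ he₀1 (invCenter_sq he₀)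
  have hEmem : ∀ i : M, orderOf i = 2 → f i ∈ E := by
    intro i hi
    obtain ⟨d, -, hd⟩ := hconj u₀ hu₀2 hu₀ j₀ i hj₀ hi
    rw [← hd, map_mul, map_mul, map_inv, hj₀e]
    exact hE.conj_mem e₀ he₀ (f d)
  -- the action
  let φ : M →* MulAut E := MulAut.conjNormal.comp f
  have hφ : ∀ (m : M) (a : E), ((φ m a : E) : M ⧸ Cfsg.oddCore M) = f m * a * (f m)⁻¹ :=
    fun m a => MulAut.conjNormal_apply _ _
  have hV : ∀ a : E, a * a = 1 := fun a => Subtype.ext (invCenter_sq a.2)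
  have h8 : 8 ≤ Nat.card E := by
    obtain ⟨A, hAM, hA, hA8⟩ := h.exists_eight hM
    let g : A → E := fun a => ⟨f ⟨a, hAM a.2⟩, by
      by_cases ha : (a : G) = 1
      · rw [show (⟨(a : G), hAM a.2⟩ : M) = 1 from Subtype.ext ha, map_one]; exact one_mem _
      · exact hEmem _ (by rw [Subgroup.orderOf_mk]; exact Invol.orderOf_eq_two_of ha (hA a a.2))⟩
    refine hA8.trans (Nat.card_le_card_of_injective g fun a b e => ?_)
    have e' : f ⟨a, hAM a.2⟩ = f ⟨b, hAM b.2⟩ := congrArg Subtype.val e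
    have h1 : f (⟨a, hAM a.2⟩⁻¹ * ⟨b, hAM b.2⟩) = 1 := by rw [map_mul, map_inv, e', inv_mul_cancel]
    have h2 : (a : G)⁻¹ * b ∈ A := mul_mem (inv_mem a.2) b.2
    have h3 := h2O _ ((QuotientGroup.eq_one_iff _).1 h1) (by
      obtain ⟨k, hk⟩ := IsPGroup.iff_orderOf.1 (isPGroup_of_sq hA) ⟨_, h2⟩
      rw [Subgroup.orderOf_mk] at hk
      exact ⟨k, by rw [← Subgroup.orderOf_coe]; exact hk⟩)
    exact Subtype.ext (inv_mul_eq_one.1 (congrArg Subtype.val h3 : (a : G)⁻¹ * b = 1))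
  have hcover : ∀ a : E, a ≠ 1 → ∃ i : M, orderOf i = 2 ∧ f i = a := fun a ha =>
    hlift a (fun e => ha (Subtype.ext e)) (invCenter_sq a.2)
  have htr : ∀ a b : E, a ≠ 1 → b ≠ 1 → ∃ m, φ m a = b := by
    intro a b ha hb
    obtain ⟨s, hs, hse⟩ := hcover a ha
    obtain ⟨t, ht, hte⟩ := hcover b hb
    obtain ⟨d, -, hd⟩ := hconj u₀ hu₀2 hu₀ s t hs ht
    exact ⟨d, Subtype.ext (by rw [hφ, ← hse, ← hte, ← hd, map_mul, map_mul, map_inv])⟩
  -- their number divides a power of `p`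
  have hn : ∃ k, Nat.card E - 1 ∣ p ^ k := by
    classical
    obtain ⟨k, hk⟩ := h.card_invol_pow hM
    refine ⟨k, ?_⟩
    let P := {a : E // a ≠ 1}
    let g : {t : G // orderOf t = 2 ∧ t ∈ M} → P := fun t =>
      ⟨⟨f ⟨t, t.2.2⟩, hEmem _ (by rw [Subgroup.orderOf_mk]; exact t.2.1)⟩,
        fun e => hf _ (by rw [Subgroup.orderOf_mk]; exact t.2.1) (congrArg Subtype.val e)⟩
    let F : P → Type u := fun a => {t // g t = a}
    have hfib : ∀ a b : P, Nat.card (F a) ≤ Nat.card (F b) := by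
      intro a b
      obtain ⟨m, hm⟩ := htr a b a.2 b.2
      refine Nat.card_le_card_of_injective
        (fun t => ⟨⟨(m : G) * t.1.1 * (m : G)⁻¹, by rw [Invol.orderOf_conj_eq]; exact t.1.2.1,
          mul_mem (mul_mem m.2 t.1.2.2) (inv_mem m.2)⟩, ?_⟩) fun s t e => ?_
      · refine Subtype.ext (Subtype.ext ?_)
        show f (m * ⟨t.1.1, t.1.2.2⟩ * m⁻¹) = (b.1 : M ⧸ Cfsg.oddCore M)
        rw [← hm, hφ, map_mul, map_mul, map_inv]
        congr 2
        exact congrArg (fun x : P => ((x.1 : E) : M ⧸ Cfsg.oddCore M)) t.2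
      · have e' : (m : G) * s.1.1 * (m : G)⁻¹ = m * t.1.1 * (m : G)⁻¹ :=
          congrArg (fun x : F b => x.1.1) e
        exact Subtype.ext (Subtype.ext ((MulAut.conj (m : G)).injective e'))
    haveI : Fintype P := Fintype.ofFinite P
    haveI : Nontrivial E := Finite.one_lt_card_iff_nontrivial.1 (by omega)
    obtain ⟨a₀, ha₀⟩ := exists_ne (1 : E)
    have hsum : Nat.card {t : G // orderOf t = 2 ∧ t ∈ M} = Nat.card P * Nat.card (F ⟨a₀, ha₀⟩) := by
      rw [← Nat.card_congr (Equiv.sigmaFiberEquiv g), Nat.card_sigma,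
        Finset.sum_congr rfl (fun a _ => le_antisymm (hfib a ⟨a₀, ha₀⟩) (hfib ⟨a₀, ha₀⟩ a)),
        Finset.sum_const, Finset.card_univ, smul_eq_mul, Nat.card_eq_fintype_card (α := P)]
    haveI : Fintype E := Fintype.ofFinite E
    have hP : Nat.card P = Nat.card E - 1 := by
      rw [Nat.card_eq_fintype_card, Nat.card_eq_fintype_card, Fintype.card_subtype_compl,
        Fintype.card_subtype_eq]
    rw [← hP, ← hk, hsum]
    exact dvd_mul_right _ _
  have hodd : ∀ m : M, Odd (orderOf m) → (orderOf m).Coprime p → φ m = 1 := by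
    intro m hm hmp
    have h1 : f m = 1 :=
      (QuotientGroup.eq_one_iff m).2 ((h.toHyp.subgroup M).odd_mem_core hm hmp)
    show MulAut.conjNormal (f m) = 1
    rw [h1, map_one]
  obtain ⟨hidx, -, hstab⟩ := kernel_index φ hV h8 htr h.prime hn hodd
  refine ⟨φ.ker, inferInstance, hidx, fun m i hi hmi => ?_, fun u hu huM => ?_⟩
  · refine hstab m ⟨f i, hEmem i hi⟩ (fun e => hf i hi (congrArg Subtype.val e)) (Subtype.ext ?_)
    rw [hφ]
    show f m * f i * (f m)⁻¹ = f i
    rw [(hmi.map f).eq, mul_inv_cancel_right]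
  · haveI : Nontrivial E := Finite.one_lt_card_iff_nontrivial.1 (by omega)
    by_contra hc
    push Not at hc
    -- all elements of `E` would be equal
    have heq : ∀ a b : E, a ≠ 1 → b ≠ 1 → a = b := by
      intro a b ha hb
      obtain ⟨s, hs, hse⟩ := hcover a ha
      obtain ⟨t, ht, hte⟩ := hcover b hb
      obtain ⟨d, hd, hdt⟩ := hconj u hu huM s t hs ht
      have h1 : φ d = 1 := hc d hd
      have h2 : φ d a = b :=
        Subtype.ext (by rw [hφ, ← hse, ← hte, ← hdt, map_mul, map_mul, map_inv])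
      rw [← h2, h1, MulAut.one_apply]
    classical
    haveI : Fintype E := Fintype.ofFinite E
    have hle : (Finset.univ.erase (1 : E)).card ≤ 1 := Finset.card_le_one.2 fun a ha b hb =>
      heq a b (Finset.ne_of_mem_erase ha) (Finset.ne_of_mem_erase hb)
    rw [Finset.card_erase_of_mem (Finset.mem_univ _), Finset.card_univ,
      ← Nat.card_eq_fintype_card] at hle
    omega

end Min

end Cfsg.Lib.PNil
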