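import Cfsg.Agent.Lib.PNil.CaseA
import Cfsg.Agent.Lib.PNil.CaseBCount
import Mathlib.GroupTheory.SchurZassenhaus

/-!
# Groups all of whose p'-subgroups are nilpotent, p > 3, are solvable
-/

set_option autoImplicit false
set_option linter.style.haveILetI false
set_option linter.unusedSectionVars false

namespace Cfsg.Lib.PNil

open Cfsg.Lib
open scoped Pointwise

universe u

variable {p : ℕ} {G : Type u} [Group G] [Finite G]

namespace Min

variable (h : Min p G)
include h

theorem exists_elemCore {M : Subgroup G} (hM : Cfsg.IsStronglyEmbedded M)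
    (he : Even (Nat.card (Cfsg.pPrimeCore p M))) : ∃ E : Subgroup G, ElemCore M E := by
  haveI : Fact (Nat.Prime 2) := ⟨Nat.prime_two⟩
  set O := Cfsg.pPrimeCore p M
  haveI := (h.toHyp.subgroup M).nilp O (Core.pPrimeCore_coprime p M)
  obtain ⟨Q⟩ := (inferInstance : Nonempty (Sylow 2 O))
  set T := Cfsg.pCore 2 M
  have hT : IsPGroup 2 T := Core.pCore_isPGroup 2 M
  have hTne : T ≠ ⊥ := by
    intro e
    refine Q.ne_bot_of_dvd_card (even_iff_two_dvd.1 he)
      ((Subgroup.map_eq_bot_iff_of_injective _ O.subtype_injective).1 (le_bot_iff.1 ?_))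
    rw [← e]
    exact (Subgroup.map_mono (Core.le_pCore' inferInstance Q.isPGroup')).trans
      (Core.pCore_map_le_of_isSubnormal (Subgroup.Normal.isSubnormal inferInstance))
  set E := invCenter T
  haveI hE : E.Normal := ⟨fun x hx g => invCenter_conj
    (by rw [Subgroup.normalizer_eq_top_iff.2 (inferInstance : T.Normal)]; exact Subgroup.mem_top g) hx⟩
  obtain ⟨e₀, he₀, he₀2⟩ : ∃ e ∈ E, orderOf e = 2 := by
    haveI : Nontrivial T := (Subgroup.nontrivial_iff_ne_bot _).2 hTne
    haveI := hT.center_nontrivial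
    obtain ⟨k, hk⟩ := IsPGroup.iff_card.1 (hT.to_subgroup (Subgroup.center T))
    have hk0 : k ≠ 0 := fun e => by
      rw [e, pow_zero] at hk
      exact absurd hk (ne_of_gt Finite.one_lt_card)
    obtain ⟨c, hc⟩ := exists_prime_orderOf_dvd_card' (G := Subgroup.center T) 2
      (hk ▸ dvd_pow_self 2 hk0)
    have hc2 : orderOf ((c : T) : M) = 2 := by
      rw [Subgroup.orderOf_coe, Subgroup.orderOf_coe, hc]
    exact ⟨((c : T) : M), ⟨(c : T).2, Invol.inv_mul_self hc2, fun y hy =>
      congrArg Subtype.val (Subgroup.mem_center_iff.1 c.2 ⟨y, hy⟩).symm⟩, hc2⟩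
  obtain ⟨u, huM, hu2⟩ := Invol.se_exists_outside hM
  refine ⟨E.map M.subtype, Subgroup.map_subtype_le _, fun m hm => ?_, ?_, fun t ht ht2 => ?_⟩
  · refine Subgroup.le_normalizer_map M.subtype ⟨⟨m, hm⟩, ?_, rfl⟩
    rw [Subgroup.normalizer_eq_top_iff.2 hE]
    exact Subgroup.mem_top _
  · rintro _ ⟨x, hx, rfl⟩
    rw [← map_mul, invCenter_sq hx, map_one]
  · obtain ⟨d, hd, hdt⟩ := Invol.se_transitive hM hu2 huM (s := (e₀ : G))
      (by rw [Subgroup.orderOf_coe]; exact he₀2) e₀.2 ht2 ht
    exact ⟨_, hE.conj_mem e₀ he₀ ⟨d, hd.1⟩, hdt⟩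

theorem false : False := by
  obtain ⟨M, hM⟩ := h.exists_stronglyEmbedded
  rcases Nat.even_or_odd (Nat.card (Cfsg.pPrimeCore p M)) with he | ho
  · obtain ⟨E, hE⟩ := h.exists_elemCore hM he
    exact h.elem_false hM hE
  · exact h.odd_core_false hM ho

end Min

theorem isSolvable_aux (n : ℕ) : ∀ (G : Type u) [Group G] [Finite G],
    Nat.card G = n → Hyp p G → Group.IsSolvable G := by
  induction n using Nat.strong_induction_on with
  | _ n ih =>
    intro G _ _ hcard h
    haveI := Fact.mk h.prime
    have hsub : ∀ U : Subgroup G, U ≠ ⊤ → Group.IsSolvable U := fun U hU =>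
      ih _ (hcard ▸ lt_of_le_of_ne (Subgroup.card_le_card_group U)
        fun e => hU (Subgroup.eq_top_of_card_eq U e)) U rfl (h.subgroup U)
    by_cases hs : IsSimpleGroup G
    · by_contra hns
      exact (Min.mk h hs (fun hc => hns (Group.isSolvable_of_comm hc.is_comm.comm)) hsub).false
    by_cases hnt : Nontrivial G
    swap
    · haveI := not_nontrivial_iff_subsingleton.1 hnt
      exact Group.isSolvable_of_comm fun a b => Subsingleton.elim _ _
    obtain ⟨N, hN, hN1, hN2⟩ : ∃ N : Subgroup G, N.Normal ∧ N ≠ ⊥ ∧ N ≠ ⊤ := by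
      by_contra hc
      push Not at hc
      exact hs ⟨fun H hH => (em (H = ⊥)).imp id (hc H hH)⟩
    haveI := hsub N hN2
    haveI : Group.IsSolvable (G ⧸ N) := by
      by_cases hco : (Nat.card (G ⧸ N)).Coprime p
      · obtain ⟨P⟩ := (inferInstance : Nonempty (Sylow p G))
        have hPN : (P : Subgroup G) ≤ N := by
          intro x hx
          obtain ⟨k, hk⟩ := IsPGroup.iff_orderOf.1 P.isPGroup' ⟨x, hx⟩
          rw [Subgroup.orderOf_mk] at hk
          refine (QuotientGroup.eq_one_iff x).1 (orderOf_eq_one_iff.1 (Nat.eq_one_of_dvd_coprimes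
            (Nat.Coprime.pow_left k hco.symm) (hk ▸ orderOf_map_dvd (QuotientGroup.mk' N) x)
            (orderOf_dvd_natCard _)))
        by_cases hP : Subgroup.normalizer ((P : Subgroup G) : Set G) = ⊤
        · haveI : (P : Subgroup G).Normal := Subgroup.normalizer_eq_top_iff.1 hP
          obtain ⟨H, hH⟩ := Subgroup.exists_right_complement'_of_coprime P.card_coprime_index
          have hHc : (Nat.card H).Coprime p := by
            rw [← hH.symm.index_eq_card]
            exact ((Nat.Prime.coprime_iff_not_dvd h.prime).2 P.not_dvd_index).symm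
          haveI := h.nilp H hHc
          refine Group.isSolvable_of_surjective (f := (QuotientGroup.mk' N).comp H.subtype) fun z => ?_
          obtain ⟨g, rfl⟩ := QuotientGroup.mk'_surjective _ z
          have hg : g ∈ ((H : Set G) * ((P : Subgroup G) : Set G)) := by
            rw [← Subgroup.mul_normal, sup_comm, hH.sup_eq_top]; trivial
          obtain ⟨a, ha, b, hb, rfl⟩ := hg
          refine ⟨⟨a, ha⟩, ?_⟩
          rw [MonoidHom.comp_apply, QuotientGroup.mk'_eq_mk']
          exact ⟨b, hPN hb, rfl⟩
        · haveI := hsub _ hP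
          refine Group.isSolvable_of_surjective (f := (QuotientGroup.mk' N).comp
            (Subgroup.normalizer ((P : Subgroup G) : Set G)).subtype) fun z => ?_
          obtain ⟨g, rfl⟩ := QuotientGroup.mk'_surjective _ z
          have hg : g ∈ ((Subgroup.normalizer ((P : Subgroup G) : Set G) : Set G) * (N : Set G)) := by
            rw [← Subgroup.mul_normal, show Subgroup.normalizer ((P : Subgroup G) : Set G) ⊔ N = ⊤ from
              Sylow.normalizer_sup_eq_top' P hPN]; trivial
          obtain ⟨a, ha, b, hb, rfl⟩ := hg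
          refine ⟨⟨a, ha⟩, ?_⟩
          rw [MonoidHom.comp_apply, QuotientGroup.mk'_eq_mk']
          exact ⟨b, hb, rfl⟩
      · refine ih _ ?_ (G ⧸ N) rfl ⟨h.prime, h.gt, fun H hH => ?_⟩
        · have h1 : Nat.card (G ⧸ N) * Nat.card N = Nat.card G := by
            rw [← Subgroup.index_eq_card, Subgroup.index_mul_card]
          have h2 : 1 < Nat.card N := (Subgroup.one_lt_card_iff_ne_bot N).2 hN1
          have h3 : 0 < Nat.card (G ⧸ N) := Nat.card_pos
          nlinarith
        · have hne : H.comap (QuotientGroup.mk' N) ≠ ⊤ := fun e => hco (by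
            have : H = ⊤ := by
              rw [← Subgroup.map_comap_eq_self_of_surjective (QuotientGroup.mk'_surjective N) H, e,
                Subgroup.map_top_of_surjective _ (QuotientGroup.mk'_surjective N)]
            rwa [this, Subgroup.card_top] at hH)
          haveI := hsub _ hne
          exact h.section_nilpotent _ ((QuotientGroup.mk' N).subgroupComap H)
            ((QuotientGroup.mk' N).subgroupComap_surjective_of_surjective H
              (QuotientGroup.mk'_surjective N)) hH
    exact (Group.isSolvable_iff_subgroup_quotient N).2 ⟨inferInstance, inferInstance⟩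

theorem isSolvable_of_hyp (h : Hyp p G) : Group.IsSolvable G := isSolvable_aux _ G rfl h

end Cfsg.Lib.PNil
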