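import Cfsg.Agent.Lib.PNil.Defs
import Cfsg.Agent.Lib.ZStar.Basic
import Cfsg.Agent.Lib.Invol.Embedded
import Cfsg.Agent.S0205
import Mathlib.GroupTheory.Perm.Sign

/-!
# First properties of a minimal counterexample

Proper subgroups and their odd cores, absence of sections `S₄`, and the fact that the normalizer of
a 2-subgroup fixes every involution fixed by its Sylow 2-subgroup in an invariant group of order at
most four.
-/

set_option autoImplicit false
set_option linter.style.haveILetI false
set_option linter.unusedSectionVars false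

namespace Cfsg.Lib.PNil

universe u

variable {p : ℕ} {G : Type u} [Group G] [Finite G]

/-- The odd core of a subgroup, in the group. -/
def coreOf (K : Subgroup G) : Subgroup G := (Cfsg.oddCore ↥K).map K.subtype

theorem coreOf_le (K : Subgroup G) : coreOf K ≤ K := Subgroup.map_subtype_le _

theorem coreOf_odd (K : Subgroup G) : Odd (Nat.card (coreOf K)) := by
  rw [coreOf, Subgroup.card_map_of_injective K.subtype_injective]
  exact ZStar.odd_card_oddCore

theorem le_normalizer_coreOf (K : Subgroup G) : K ≤ Subgroup.normalizer (coreOf K : Set G) := by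
  intro k hk
  refine Subgroup.le_normalizer_map K.subtype ⟨⟨k, hk⟩, ?_, rfl⟩
  rw [Subgroup.normalizer_eq_top_iff.2 inferInstance]
  exact Subgroup.mem_top _

theorem le_coreOf {K N : Subgroup G} (hle : N ≤ K) (hn : K ≤ Subgroup.normalizer (N : Set G))
    (hodd : Odd (Nat.card N)) : N ≤ coreOf K := by
  intro x hx
  refine ⟨⟨x, hle hx⟩, ZStar.le_oddCore ((Subgroup.normal_subgroupOf_iff_le_normalizer hle).2 hn) ?_
    (Subgroup.mem_subgroupOf.2 hx), rfl⟩
  rwa [Nat.card_congr (Subgroup.subgroupOfEquivOfLe hle).toEquiv]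

theorem mem_coreOf {K : Subgroup G} {x : G} (hx : x ∈ K) (h : (⟨x, hx⟩ : K) ∈ Cfsg.oddCore ↥K) :
    x ∈ coreOf K := ⟨⟨x, hx⟩, h, rfl⟩

/-- The odd core commutes with every invariant 2-subgroup. -/
theorem coreOf_commute {K T : Subgroup G} (hTK : T ≤ K) (hn : K ≤ Subgroup.normalizer (T : Set G))
    (hT : IsPGroup 2 T) {a b : G} (ha : a ∈ coreOf K) (hb : b ∈ T) : Commute a b := by
  haveI : Fact (Nat.Prime 2) := ⟨Nat.prime_two⟩
  refine coe_normal_commute (le_normalizer_coreOf K) hn (coreOf_le K) hTK ?_ ha hb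
  obtain ⟨k, hk⟩ := IsPGroup.iff_card.1 hT
  rw [hk]
  exact Nat.Coprime.pow_right k (coreOf_odd K).coprime_two_right

namespace Min

variable (h : Min p G)
include h

theorem not_isSolvable : ¬ Group.IsSolvable G := fun hs => by
  haveI := h.simple
  exact h.noncomm ⟨⟨IsSimpleGroup.comm_iff_isSolvable.2 hs⟩⟩

theorem even_card : Even (Nat.card G) := by
  by_contra hc
  exact h.not_isSolvable (Cfsg.Agent.S0205.result (Nat.not_even_iff_odd.1 hc))

theorem normalizer_ne_top {P : Subgroup G} (h1 : P ≠ ⊥) (h2 : P ≠ ⊤) :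
    Subgroup.normalizer (P : Set G) ≠ ⊤ := by
  intro e
  haveI := h.simple
  exact (IsSimpleGroup.eq_bot_or_eq_top_of_normal P (Subgroup.normalizer_eq_top_iff.1 e)).elim h1 h2

theorem ne_top_of_isPGroup {q : ℕ} [Fact q.Prime] {P : Subgroup G} (hP : IsPGroup q P) : P ≠ ⊤ := by
  intro e
  subst e
  haveI := IsPGroup.isNilpotent hP
  exact h.not_isSolvable (Group.isSolvable_of_surjective
    (f := (Subgroup.topEquiv (G := G)).toMonoidHom) Subgroup.topEquiv.surjective)

theorem normalizer_ne_top_two {P : Subgroup G} (h1 : P ≠ ⊥) (hP : IsPGroup 2 P) :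
    Subgroup.normalizer (P : Set G) ≠ ⊤ :=
  haveI : Fact (Nat.Prime 2) := ⟨Nat.prime_two⟩
  h.normalizer_ne_top h1 (h.ne_top_of_isPGroup hP)

theorem centralizer_ne_top {t : G} (ht : t ≠ 1) : Subgroup.centralizer ({t} : Set G) ≠ ⊤ := by
  intro e
  haveI := h.simple
  have hc : t ∈ Subgroup.center G := Subgroup.mem_center_iff.2 fun g =>
    Subgroup.mem_centralizer_singleton_iff.1 (e ▸ Subgroup.mem_top g)
  rcases IsSimpleGroup.eq_bot_or_eq_top_of_normal (Subgroup.center G) inferInstance with h' | h'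
  · exact ht (Subgroup.mem_bot.1 (h' ▸ hc))
  · exact h.noncomm ⟨⟨fun a b => Subgroup.mem_center_iff.1 (h' ▸ Subgroup.mem_top b) a⟩⟩

/-- Odd p'-elements of a proper subgroup lie in its odd core. -/
theorem odd_mem_core {K : Subgroup G} (hK : K ≠ ⊤) {y : G} (hy : y ∈ K) (hodd : Odd (orderOf y))
    (hp : (orderOf y).Coprime p) : y ∈ coreOf K := by
  haveI := h.solvable K hK
  refine mem_coreOf hy ((h.toHyp.subgroup K).odd_mem_core ?_ ?_)
  · rwa [Subgroup.orderOf_mk]
  · rwa [Subgroup.orderOf_mk]

/-- There is no section `S₄`. -/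
theorem sfour_free : ¬ Cfsg.Involves (Equiv.Perm (Fin 4)) G := by
  rintro ⟨K, R, hR, ⟨e⟩⟩
  haveI := h.simple
  set f : K →* Equiv.Perm (Fin 4) := e.toMonoidHom.comp (QuotientGroup.mk' (R.subgroupOf K))
  have hf : Function.Surjective f := e.surjective.comp (QuotientGroup.mk'_surjective _)
  by_cases hK : K = ⊤
  · subst hK
    set g : G →* ℤˣ := (Equiv.Perm.sign.comp f).comp (Subgroup.topEquiv (G := G)).symm.toMonoidHom
    have hg : Function.Surjective g :=
      ((Equiv.Perm.sign_surjective (Fin 4)).comp hf).comp Subgroup.topEquiv.symm.surjective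
    rcases IsSimpleGroup.eq_bot_or_eq_top_of_normal g.ker inferInstance with hb | ht
    · exact h.noncomm ⟨⟨fun a b => (MonoidHom.ker_eq_bot_iff g).1 hb (by rw [map_mul, map_mul, mul_comm])⟩⟩
    · obtain ⟨a, ha⟩ := hg (-1)
      have : g a = 1 := (ht ▸ Subgroup.mem_top a : a ∈ g.ker)
      rw [ha] at this
      exact absurd this (by decide)
  haveI := h.solvable K hK
  have h24 : (Nat.card (Equiv.Perm (Fin 4))).Coprime p := by
    rw [Nat.card_perm, Nat.card_fin, show Nat.factorial 4 = 2 ^ 3 * 3 by rfl]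
    exact Nat.Coprime.mul_left (h.coprime_two_pow 3)
      ((Nat.coprime_primes Nat.prime_three h.prime).2 (by have := h.gt; omega))
  haveI := h.section_nilpotent K f hf h24
  have hc := PGroup.commute_of_coprime_orderOf (Equiv.swap (0 : Fin 4) 1)
    (Equiv.swap (0 : Fin 4) 1 * Equiv.swap 1 2) (by
      have h2 : orderOf (Equiv.swap (0 : Fin 4) 1) = 2 := orderOf_eq_prime (by decide) (by decide)
      have h3 : orderOf (Equiv.swap (0 : Fin 4) 1 * Equiv.swap 1 2) = 3 := by
        haveI : Fact (Nat.Prime 3) := ⟨Nat.prime_three⟩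
        exact orderOf_eq_prime (by decide) (by decide)
      rw [h2, h3]; norm_num)
  exact absurd hc.eq (by decide)

/-- If the normalizer of a nontrivial 2-subgroup `J` acts on a subgroup `B` of `J` of order at most
four, it fixes each involution of `B` fixed by one of its Sylow 2-subgroups. -/
theorem fix_small {J B : Subgroup G} (hJ : IsPGroup 2 J) (hne : J ≠ ⊥) (hBJ : B ≤ J)
    (hB : ∀ n ∈ Subgroup.normalizer (J : Set G), ∀ b ∈ B, n * b * n⁻¹ ∈ B) (hB4 : Nat.card B ≤ 4)
    {S : Subgroup G}
    (hS : ¬ 2 ∣ S.relIndex (Subgroup.normalizer (J : Set G))) {z : G} (hzB : z ∈ B) (hz1 : z ≠ 1)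
    (hfix : ∀ s ∈ S, s * z * s⁻¹ = z) :
    ∀ n ∈ Subgroup.normalizer (J : Set G), n * z * n⁻¹ = z := by
  classical
  haveI := Fintype.ofFinite B
  set N := Subgroup.normalizer (J : Set G)
  set C := (Subgroup.centralizer ({z} : Set G)).subgroupOf N
  have hmem : ∀ n : N, n ∈ C ↔ (n : G) * z * (n : G)⁻¹ = z := fun n => by
    rw [Subgroup.mem_subgroupOf, Subgroup.mem_centralizer_singleton_iff, mul_inv_eq_iff_eq_mul]
  have hidx : C.index ≤ 3 := by
    let f : N ⧸ C → {b : B // b ≠ 1} := Quotient.lift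
      (fun n : N => ⟨⟨(n : G) * z * (n : G)⁻¹, hB n n.2 z hzB⟩,
        fun e => hz1 (conj_eq_one_iff.1 (congrArg Subtype.val e))⟩) (fun a b hab => by
          have hab' := (hmem _).1 (QuotientGroup.leftRel_apply.1 hab)
          simp only [Subgroup.coe_mul, InvMemClass.coe_inv, mul_inv_rev, inv_inv] at hab'
          refine Subtype.ext (Subtype.ext ?_)
          show (a : G) * z * (a : G)⁻¹ = (b : G) * z * (b : G)⁻¹
          calc (a : G) * z * (a : G)⁻¹
              = (a : G) * ((a : G)⁻¹ * (b : G) * z * ((b : G)⁻¹ * (a : G))) * (a : G)⁻¹ := by rw [hab']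
            _ = (b : G) * z * (b : G)⁻¹ := by group)
    have hf : Function.Injective f := by
      intro a b
      induction a using QuotientGroup.induction_on with
      | _ a =>
        induction b using QuotientGroup.induction_on with
        | _ b =>
          intro e
          have e' : (a : G) * z * (a : G)⁻¹ = (b : G) * z * (b : G)⁻¹ :=
            congrArg (fun w : {b : B // b ≠ 1} => ((w : B) : G)) e
          rw [QuotientGroup.eq, hmem]
          simp only [Subgroup.coe_mul, InvMemClass.coe_inv, mul_inv_rev, inv_inv]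
          calc (a : G)⁻¹ * (b : G) * z * ((b : G)⁻¹ * (a : G))
              = (a : G)⁻¹ * ((b : G) * z * (b : G)⁻¹) * (a : G) := by group
            _ = z := by rw [← e']; group
    refine (Nat.card_le_card_of_injective f hf).trans ?_
    rw [Nat.card_eq_fintype_card, Fintype.card_subtype_compl, Fintype.card_subtype_eq]
    rw [Nat.card_eq_fintype_card] at hB4
    omega
  have hodd : ¬ 2 ∣ C.index := by
    refine fun hd => hS (hd.trans (Subgroup.index_dvd_of_le fun s hs => ?_))
    exact (hmem s).2 (hfix _ (Subgroup.mem_subgroupOf.1 hs))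
  intro n hn
  suffices h1 : C = ⊤ from (hmem ⟨n, hn⟩).1 (h1 ▸ Subgroup.mem_top _)
  rw [← Subgroup.index_eq_one]
  by_contra hne1
  have h3 : C.index = 3 := by
    have h0 : C.index ≠ 0 := Subgroup.index_ne_zero_of_finite
    omega
  haveI : Fact (Nat.Prime 3) := ⟨Nat.prime_three⟩
  obtain ⟨Q⟩ := (inferInstance : Nonempty (Sylow 3 ↥N))
  refine Q.not_dvd_index (h3.symm.dvd.trans (Subgroup.index_dvd_of_le fun y hy => (hmem y).2 ?_))
  obtain ⟨k, hk⟩ := IsPGroup.iff_orderOf.1 Q.isPGroup' ⟨y, hy⟩
  rw [Subgroup.orderOf_mk, ← Subgroup.orderOf_coe] at hk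
  have hyc := h.odd_mem_core (h.normalizer_ne_top_two hne hJ) y.2
    (by rw [hk]; exact Odd.pow (by decide))
    (by
      rw [hk]
      exact Nat.Coprime.pow_left k
        ((Nat.coprime_primes Nat.prime_three h.prime).2 (by have := h.gt; omega)))
  rw [(coreOf_commute Subgroup.le_normalizer le_rfl hJ hyc (hBJ hzB)).eq, mul_inv_cancel_right]

end Min

end Cfsg.Lib.PNil
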