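import Cfsg.Agent.Lib.PNil.Min
import Cfsg.Agent.Lib.Local.SFourFF.Control
import Cfsg.Agent.S0215

/-!
# A normal elementary abelian subgroup of order eight in a Sylow 2-subgroup

Some involution of the centre of a Sylow 2-subgroup `S` is moved by the normalizer of `Z(S)` or of
`J(S)`, as these control fusion in the absence of sections `S₄`; the involutions of the centre of
that subgroup then form a group of order at least eight.
-/

set_option autoImplicit false
set_option linter.style.haveILetI false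
set_option linter.unusedSectionVars false

namespace Cfsg.Lib.PNil

universe u

variable {p : ℕ} {G : Type u} [Group G] [Finite G]

/-- The elements of square one of the centre of `J`. -/
def invCenter (J : Subgroup G) : Subgroup G where
  carrier := {x | x ∈ J ∧ x * x = 1 ∧ ∀ y ∈ J, Commute x y}
  one_mem' := ⟨one_mem _, one_mul 1, fun y _ => Commute.one_left y⟩
  mul_mem' := fun {a b} ha hb => ⟨mul_mem ha.1 hb.1,
    by rw [(ha.2.2 b hb.1).symm.mul_mul_mul_comm, ha.2.1, hb.2.1, one_mul],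
    fun y hy => (ha.2.2 y hy).mul_left (hb.2.2 y hy)⟩
  inv_mem' := fun {a} ha => ⟨inv_mem ha.1, by rw [← mul_inv_rev, ha.2.1, inv_one],
    fun y hy => (ha.2.2 y hy).inv_left⟩

theorem mem_invCenter {J : Subgroup G} {x : G} :
    x ∈ invCenter J ↔ x ∈ J ∧ x * x = 1 ∧ ∀ y ∈ J, Commute x y := Iff.rfl

theorem invCenter_le (J : Subgroup G) : invCenter J ≤ J := fun _ hx => hx.1

theorem invCenter_conj {J : Subgroup G} {n x : G} (hn : n ∈ Subgroup.normalizer (J : Set G))
    (hx : x ∈ invCenter J) : n * x * n⁻¹ ∈ invCenter J := by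
  obtain ⟨h1, h2, h3⟩ := mem_invCenter.1 hx
  refine ⟨(Subgroup.mem_normalizer_iff.1 hn x).1 h1,
    by rw [show n * x * n⁻¹ * (n * x * n⁻¹) = n * (x * x) * n⁻¹ by group, h2, mul_one, mul_inv_cancel],
    fun y hy => ?_⟩
  have hy' : n⁻¹ * y * n ∈ J := by
    have := (Subgroup.mem_normalizer_iff.1 (inv_mem hn) y).1 hy
    rwa [inv_inv] at this
  simpa [mul_assoc] using (h3 _ hy').map (MulAut.conj n).toMonoidHom

theorem invCenter_sq {J : Subgroup G} {x : G} (hx : x ∈ invCenter J) : x * x = 1 := hx.2.1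

theorem isPGroup_of_sq {E : Subgroup G} (hE : ∀ e ∈ E, e * e = 1) : IsPGroup 2 E := fun e =>
  ⟨1, Subtype.ext (by rw [pow_one, pow_two]; exact hE e e.2)⟩

theorem commute_of_sq {E : Subgroup G} (hE : ∀ e ∈ E, e * e = 1) {a b : G} (ha : a ∈ E) (hb : b ∈ E) :
    Commute a b := by
  have h1 := fun e he => eq_inv_of_mul_eq_one_left (hE e he)
  calc a * b = (a * b)⁻¹ := h1 _ (mul_mem ha hb)
    _ = b⁻¹ * a⁻¹ := mul_inv_rev a b
    _ = b * a := by rw [← h1 a ha, ← h1 b hb]

/-- An involution central in `T` lies in the Thompson subgroup of `T`. -/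
theorem mem_thompson_of_central {T : Type u} [Group T] [Finite T] {z : T} (hz : z * z = 1)
    (hc : ∀ y : T, Commute z y) : z ∈ Cfsg.thompsonSubgroup 2 T := by
  obtain ⟨B, hB, hmax⟩ := Set.exists_max_image {A : Subgroup T | Cfsg.IsElementaryAbelian 2 A}
    (fun A => Nat.card A) (Set.toFinite _)
    ⟨⊥, ⟨⟨fun a b => Subsingleton.elim _ _⟩⟩, fun a ha => by rw [Subgroup.mem_bot.1 ha, one_pow]⟩
  set E := invCenter (Subgroup.centralizer (B : Set T))
  have hBE : B ≤ E := fun b hb => ⟨Subgroup.mem_centralizer_iff.2 fun a ha =>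
      congrArg Subtype.val (hB.1.is_comm.comm (⟨a, ha⟩ : B) ⟨b, hb⟩),
    by rw [← pow_two]; exact hB.2 b hb,
    fun y hy => Subgroup.mem_centralizer_iff.1 hy b hb⟩
  have hE : Cfsg.IsElementaryAbelian 2 E :=
    ⟨⟨⟨fun a b => Subtype.ext (commute_of_sq (fun e he => invCenter_sq he) a.2 b.2).eq⟩⟩,
      fun a ha => by rw [pow_two]; exact invCenter_sq ha⟩
  have hEB : E = B := (Subgroup.eq_of_le_of_card_ge hBE (hmax E hE)).symm
  have hzB : z ∈ B :=
    hEB ▸ ⟨Subgroup.mem_centralizer_iff.2 fun a _ => (hc a).eq.symm, hz, fun y _ => hc y⟩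
  exact le_sSup (s := Cfsg.maxElementaryAbelianSubgroups 2 T) ⟨hB, fun A hA => hmax A hA⟩ hzB

namespace Min

variable (h : Min p G)
include h

theorem exists_normal_eight : ∃ (S : Sylow 2 G) (A : Subgroup G), A ≤ (S : Subgroup G) ∧
    (S : Subgroup G) ≤ Subgroup.normalizer (A : Set G) ∧ (∀ a ∈ A, a * a = 1) ∧ 8 ≤ Nat.card A := by
  haveI : Fact (Nat.Prime 2) := ⟨Nat.prime_two⟩
  haveI := h.simple
  obtain ⟨T, -, hT, hTi, hctrl⟩ := Local.SFourFF.zj_controls h.sfour_free
  rw [Subgroup.relIndex_top_right] at hTi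
  set S : Sylow 2 G := hT.toSylow hTi
  have hST : (S : Subgroup G) = T := rfl
  by_contra hno
  have hno' : ∀ A : Subgroup G, A ≤ T → T ≤ Subgroup.normalizer (A : Set G) → (∀ a ∈ A, a * a = 1) →
      Nat.card A < 8 := fun A h1 h2 h3 => not_le.1 fun h4 => hno ⟨S, A, h1, h2, h3, h4⟩
  have hTne : T ≠ ⊥ := hST ▸ S.ne_bot_of_dvd_card (even_iff_two_dvd.1 h.even_card)
  -- a central involution
  haveI : Nontrivial T := (Subgroup.nontrivial_iff_ne_bot _).2 hTne
  obtain ⟨z, hzT, hz1, hz2, hzc⟩ : ∃ z ∈ T, z ≠ 1 ∧ z * z = 1 ∧ ∀ y ∈ T, Commute z y := by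
    haveI := hT.center_nontrivial
    obtain ⟨k, hk⟩ := IsPGroup.iff_card.1 (hT.to_subgroup (Subgroup.center T))
    have hk0 : k ≠ 0 := fun e => by
      rw [e, pow_zero] at hk
      exact absurd hk (ne_of_gt Finite.one_lt_card)
    obtain ⟨c, hc⟩ := exists_prime_orderOf_dvd_card' (G := Subgroup.center T) 2
      (hk ▸ dvd_pow_self 2 hk0)
    refine ⟨((c : T) : G), (c : T).2, fun e => ?_, ?_, fun y hy => ?_⟩
    · have : c = 1 := Subtype.ext (Subtype.ext e)
      rw [this, orderOf_one] at hc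
      exact absurd hc (by norm_num)
    · have := pow_orderOf_eq_one c
      rw [hc, pow_two] at this
      exact congrArg (fun w : Subgroup.center T => ((w : T) : G)) this
    · exact congrArg Subtype.val (Subgroup.mem_center_iff.1 c.2 ⟨y, hy⟩).symm
  -- both normalizers fix it
  have key : ∀ J : Subgroup G, J ≤ T → z ∈ J → T ≤ Subgroup.normalizer (J : Set G) →
      ∀ n ∈ Subgroup.normalizer (J : Set G), n * z * n⁻¹ = z := by
    intro J hJT hzJ hTJ
    have hzB : z ∈ invCenter J := ⟨hzJ, hz2, fun y hy => hzc y (hJT hy)⟩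
    refine h.fix_small (hT.to_le hJT) (fun e => hz1 (Subgroup.mem_bot.1 (e ▸ hzJ))) (invCenter_le J)
      (fun n hn b hb => invCenter_conj hn hb) ?_ (S := T)
      (fun hd => hTi (hd.trans (Subgroup.relIndex_dvd_index_of_le hTJ))) hzB hz1
      fun s hs => by rw [← (hzc s hs).eq, mul_inv_cancel_right]
    have hlt := hno' (invCenter J) ((invCenter_le J).trans hJT) (fun t ht => by
      refine Subgroup.mem_normalizer_fintype fun b hb => invCenter_conj (hTJ ht) hb)
      fun a ha => invCenter_sq ha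
    obtain ⟨k, hk⟩ := IsPGroup.iff_card.1 (isPGroup_of_sq fun e (he : e ∈ invCenter J) => invCenter_sq he)
    rw [hk] at hlt ⊢
    have : k < 3 := (Nat.pow_lt_pow_iff_right one_lt_two).1 (lt_of_lt_of_eq hlt (by norm_num))
    exact le_trans (Nat.pow_le_pow_right two_pos (Nat.lt_succ_iff.1 this)) (by norm_num)
  have hnorm : ∀ W : Subgroup T, W.Normal → T ≤ Subgroup.normalizer ((W.map T.subtype : Subgroup G) : Set G) := by
    intro W hW t ht
    refine Subgroup.le_normalizer_map T.subtype ⟨⟨t, ht⟩, ?_, rfl⟩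
    rw [Subgroup.normalizer_eq_top_iff.2 hW]
    exact Subgroup.mem_top _
  have hW : ∀ W ∈ ({Cfsg.inducedFunctor (G := G) Local.SFourFF.ctrFun,
      Cfsg.inducedFunctor (G := G) Local.SFourFF.jFun} : Set (Subgroup G → Subgroup G)),
      ∀ n ∈ Subgroup.normalizer ((W T : Subgroup G) : Set G), n * z * n⁻¹ = z := by
    rintro W (rfl | rfl)
    · refine key _ (Subgroup.map_subtype_le _) ⟨⟨z, hzT⟩, Subgroup.mem_center_iff.2
        fun y => Subtype.ext (hzc y y.2).eq.symm, rfl⟩ (hnorm _ ?_)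
      exact (inferInstance : (Subgroup.center T).Normal)
    · refine key _ (Subgroup.map_subtype_le _) ⟨⟨z, hzT⟩, mem_thompson_of_central (Subtype.ext hz2)
        (fun y => Subtype.ext (hzc y y.2).eq), rfl⟩ (hnorm _ ⟨fun x hx g => ?_⟩)
      have e := Thompson.map_thompson_eq (p := 2) (MulAut.conj g : T ≃* T)
      exact (le_of_eq e) ⟨x, hx, rfl⟩
  -- so it is isolated
  obtain ⟨N, hN, hodd, hcomm⟩ := Cfsg.Agent.S0215.result S z
    (Invol.orderOf_eq_two_of hz1 hz2) hzT (fun g hg => by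
      obtain ⟨m, c, hc0, hstep, -, hlast⟩ := hctrl {z} g (Subgroup.mem_top g)
        (Set.singleton_subset_iff.2 hzT) (by rw [Set.image_singleton, Set.singleton_subset_iff]; exact hg)
      rw [← hlast z rfl]
      suffices ∀ i : Fin (m + 1), c i * z * (c i)⁻¹ = z from this _
      intro i
      induction i using Fin.induction with
      | zero => rw [hc0]; group
      | succ i ih =>
        obtain ⟨W, hW', hn⟩ := hstep i
        have := hW W hW' _ hn.2
        calc c i.succ * z * (c i.succ)⁻¹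
            = (c i.succ * (c i.castSucc)⁻¹) * (c i.castSucc * z * (c i.castSucc)⁻¹) *
              (c i.succ * (c i.castSucc)⁻¹)⁻¹ := by group
          _ = z := by rw [ih, this])
  rcases IsSimpleGroup.eq_bot_or_eq_top_of_normal N hN with hb | ht
  · refine h.centralizer_ne_top hz1 (eq_top_iff.2 fun g _ => ?_)
    have := hcomm g
    rw [hb, Subgroup.mem_bot, mul_inv_eq_one, mul_inv_eq_iff_eq_mul] at this
    exact Subgroup.mem_centralizer_singleton_iff.2 this.symm
  · rw [ht, Subgroup.card_top] at hodd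
    exact Nat.not_even_iff_odd.2 hodd h.even_card

end Min

end Cfsg.Lib.PNil
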