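import Cfsg.Agent.Lib.PNil.Min
import Cfsg.Agent.S0016
import Cfsg.Agent.Lib.Char.TwoClassCore

/-!
# Automorphisms of 2-groups with a unique involution
-/

set_option autoImplicit false
set_option linter.style.haveILetI false

namespace Cfsg.Lib.PNil

universe u

/-- An automorphism of `p`-power order, `p > 3`, of a 2-group with at most one involution is trivial. -/
theorem aut_trivial {T : Type u} [Group T] [Finite T] (hT : IsPGroup 2 T)
    (huniq : ∀ x y : T, orderOf x = 2 → orderOf y = 2 → x = y) {p : ℕ} (hp : p.Prime) (hp3 : 3 < p)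
    (σ : MulAut T) {j : ℕ} (hσ : σ ^ p ^ j = 1) : σ = 1 := by
  haveI : Fact (Nat.Prime 2) := ⟨Nat.prime_two⟩
  haveI := Fact.mk hp
  have huniq' : ∀ H K : Subgroup T, Nat.card H = 2 → Nat.card K = 2 → H = K := by
    intro H K hH hK
    obtain ⟨x, hx⟩ := exists_prime_orderOf_dvd_card' (G := H) 2 (dvd_of_eq hH.symm)
    obtain ⟨y, hy⟩ := exists_prime_orderOf_dvd_card' (G := K) 2 (dvd_of_eq hK.symm)
    rw [← Subgroup.orderOf_coe] at hx hy
    have e1 : Subgroup.zpowers (x : T) = H := Subgroup.eq_of_le_of_card_ge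
      (Subgroup.zpowers_le.2 x.2) (by rw [Nat.card_zpowers, hx, hH])
    have e2 : Subgroup.zpowers (y : T) = K := Subgroup.eq_of_le_of_card_ge
      (Subgroup.zpowers_le.2 y.2) (by rw [Nat.card_zpowers, hy, hK])
    rw [← e1, ← e2, huniq x y hx hy]
  have hcyclic : IsCyclic T → σ = 1 := by
    intro hc
    obtain ⟨k, hk⟩ := IsPGroup.iff_card.1 hT
    have h1 : orderOf σ ∣ p ^ j := orderOf_dvd_of_pow_eq_one hσ
    have h2 : orderOf σ ∣ Nat.card (MulAut T) := orderOf_dvd_natCard σ
    rw [IsCyclic.card_mulAut, hk] at h2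
    rcases Nat.eq_zero_or_pos k with rfl | hk0
    · simpa using h2
    rw [Nat.totient_prime_pow Nat.prime_two hk0, show (2 : ℕ) - 1 = 1 by rfl, mul_one] at h2
    exact orderOf_eq_one_iff.1 (Nat.eq_one_of_dvd_coprimes
      ((Nat.coprime_primes hp Nat.prime_two).2 (by omega) |>.pow j (k - 1)) h1 h2)
  rcases Cfsg.Agent.S0016.result 2 hT huniq' with hc | ⟨-, n, ⟨e⟩⟩
  · exact hcyclic hc
  · rcases Nat.eq_zero_or_pos n with rfl | hn
    · exact hcyclic (e.isCyclic.2 (by rw [pow_zero]; exact QuaternionGroup.quaternionGroup_one_isCyclic))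
    · exact (Cfsg.Lib.Char.TwoClassCore.quaternion_aut hn e (by omega) σ hσ).resolve_right
        fun hbad => by omega

end Cfsg.Lib.PNil
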