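import Cfsg.Agent.Lib.PNil.Rank
import Cfsg.Agent.Lib.PNil.Balance
import Cfsg.Agent.Lib.PNil.Unique
import Cfsg.Agent.Lib.Coprime.Generation
import Cfsg.Agent.S0217
import Cfsg.Agent.S3756
import Cfsg.Agent.S0028

/-!
# A minimal counterexample has a strongly embedded subgroup

The odd cores of the centralizers of the involutions of a normal elementary abelian subgroup of order
at least eight generate an odd subgroup `W`, generated in the same way by any four-group of the Sylow
2-subgroup. If `W ≠ 1` its normalizer is strongly embedded; otherwise all 2-locals have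
characteristic 2.
-/

set_option autoImplicit false
set_option linter.style.haveILetI false
set_option linter.unusedSectionVars false
set_option linter.unusedSimpArgs false

namespace Cfsg.Lib.PNil

universe u

variable {p : ℕ} {G : Type u} [Group G] [Finite G]

/-- An involution centralizes at least four elements of an elementary abelian group of order at least
eight which it normalizes. -/
theorem four_le_inf_centralizer {A : Subgroup G} (hA : ∀ a ∈ A, a * a = 1) (hA8 : 8 ≤ Nat.card A)
    {t : G} (ht : t * t = 1) (hn : t ∈ Subgroup.normalizer (A : Set G)) :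
    4 ≤ Nat.card (A ⊓ Subgroup.centralizer ({t} : Set G) : Subgroup G) := by
  have htinv : t⁻¹ = t := inv_eq_of_mul_eq_one_right ht
  have hconj : ∀ a ∈ A, t * a * t ∈ A := fun a ha => by
    have := (Subgroup.mem_normalizer_iff.1 hn a).1 ha
    rwa [htinv] at this
  let f : A →* A := MonoidHom.mk' (fun a => ⟨(a : G) * (t * a * t), mul_mem a.2 (hconj a a.2)⟩)
    fun a b => Subtype.ext (by
      show (a : G) * b * (t * ((a : G) * b) * t) = (a : G) * (t * a * t) * ((b : G) * (t * b * t))
      rw [(commute_of_sq hA b.2 (hconj a a.2)).symm.mul_mul_mul_comm]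
      congr 1
      rw [show t * (a : G) * t * (t * b * t) = t * a * (t * t) * b * t by group, ht]
      group)
  have hker : ∀ a : A, a ∈ f.ker ↔ (a : G) * t = t * a := by
    intro a
    rw [MonoidHom.mem_ker, Subtype.ext_iff]
    show (a : G) * (t * a * t) = 1 ↔ _
    constructor
    · intro e
      have e1 : t * (a : G) * t = a := by
        rw [eq_inv_of_mul_eq_one_right e, inv_eq_of_mul_eq_one_right (hA a a.2)]
      calc (a : G) * t = t * a * t * t := by rw [e1]
        _ = t * a := by rw [mul_assoc, ht, mul_one]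
    · intro e
      rw [← e, mul_assoc (a : G) t t, ht, mul_one, hA a a.2]
  have hrange : f.range ≤ f.ker := by
    rintro _ ⟨a, rfl⟩
    rw [hker]
    show (a : G) * (t * a * t) * t = t * ((a : G) * (t * a * t))
    rw [show t * ((a : G) * (t * a * t)) = (t * a * t) * (a * t) by group,
      (commute_of_sq hA a.2 (hconj a a.2)).eq]
    group
  have hcard : Nat.card f.ker = Nat.card (A ⊓ Subgroup.centralizer ({t} : Set G) : Subgroup G) := by
    rw [← Subgroup.card_map_of_injective A.subtype_injective]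
    congr 2
    ext x
    constructor
    · rintro ⟨a, ha, rfl⟩
      exact ⟨a.2, Subgroup.mem_centralizer_singleton_iff.2 ((hker a).1 ha)⟩
    · intro hx
      exact ⟨⟨x, hx.1⟩, (hker _).2 (Subgroup.mem_centralizer_singleton_iff.1 hx.2), rfl⟩
  rw [← hcard]
  have h1 : Nat.card f.range * Nat.card f.ker = Nat.card A := by
    rw [← Subgroup.index_ker, Subgroup.index_mul_card]
  have h2 : Nat.card f.range ≤ Nat.card f.ker := Nat.le_of_dvd Nat.card_pos (Subgroup.card_dvd_of_le hrange)
  obtain ⟨k, hk⟩ := IsPGroup.iff_card.1 ((isPGroup_of_sq hA).to_subgroup f.ker)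
  by_contra hlt
  have h3 : k < 2 := by
    by_contra hk2
    exact hlt (hk ▸ le_trans (by norm_num) (Nat.pow_le_pow_right two_pos (not_lt.1 hk2)))
  have h4 : Nat.card f.ker ≤ 2 := by
    rw [hk]
    exact le_trans (Nat.pow_le_pow_right two_pos (Nat.lt_succ_iff.1 h3)) (by norm_num)
  nlinarith

theorem coprime_of_sq_group {E R : Subgroup G} (hE : ∀ e ∈ E, e * e = 1) (hR : Odd (Nat.card R)) :
    (Nat.card E).Coprime (Nat.card R) := by
  haveI : Fact (Nat.Prime 2) := ⟨Nat.prime_two⟩
  obtain ⟨j, hj⟩ := IsPGroup.iff_card.1 (isPGroup_of_sq hE)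
  rw [hj]
  exact Nat.Coprime.pow_left j hR.coprime_two_left

/-- A four-group acting on an odd order group generates it by the centralizers of its involutions. -/
theorem le_iSup_of_four {E R : Subgroup G} (hE : ∀ e ∈ E, e * e = 1) (hE4 : 4 ≤ Nat.card E)
    (hn : E ≤ Subgroup.normalizer (R : Set G)) (hR : Odd (Nat.card R)) :
    R ≤ ⨆ e : {e : G // e ∈ E ∧ e ≠ 1}, R ⊓ Subgroup.centralizer ({(e : G)} : Set G) := by
  haveI : IsMulCommutative E := ⟨⟨fun a b => Subtype.ext (commute_of_sq hE a.2 b.2).eq⟩⟩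
  refine Cfsg.Lib.Coprime.le_iSup_centralizer_of_not_isCyclic (fun hc => ?_) hn
    (coprime_of_sq_group hE hR)
  obtain ⟨g, hg⟩ := hc.exists_generator
  have h1 : orderOf g = Nat.card E := orderOf_eq_card_of_forall_mem_zpowers hg
  have h2 : orderOf g ≤ 2 := orderOf_le_of_pow_eq_one (by norm_num) (Subtype.ext (by
    rw [Subgroup.coe_pow, pow_two, Subgroup.coe_one]; exact hE g g.2))
  omega

section Frattini

variable {L : Type u} [Group L] [Finite L] (Q : Sylow 2 L)

/-- The part of a Sylow 2-subgroup over the 2-core modulo the odd core. -/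
def twoPart : Subgroup L :=
  (Q : Subgroup L) ⊓ (Cfsg.pCore 2 (L ⧸ Cfsg.oddCore L)).comap (QuotientGroup.mk' (Cfsg.oddCore L))

theorem twoPart_map :
    (twoPart Q).map (QuotientGroup.mk' (Cfsg.oddCore L)) = Cfsg.pCore 2 (L ⧸ Cfsg.oddCore L) := by
  haveI : Fact (Nat.Prime 2) := ⟨Nat.prime_two⟩
  set f := QuotientGroup.mk' (Cfsg.oddCore L)
  set T := Cfsg.pCore 2 (L ⧸ Cfsg.oddCore L)
  refine le_antisymm ((Subgroup.map_mono inf_le_right).trans (Subgroup.map_comap_le f T)) ?_
  intro y hy
  have hTQ : T ≤ (Q.mapSurjective (f := f) (QuotientGroup.mk'_surjective _) :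
    Subgroup (L ⧸ Cfsg.oddCore L)) := Core.pCore_le_sylow _
  obtain ⟨x, hx, rfl⟩ := (Sylow.coe_mapSurjective (QuotientGroup.mk'_surjective _) Q).le (hTQ hy)
  exact ⟨x, ⟨hx, hy⟩, rfl⟩

theorem twoPart_inj : ∀ x ∈ twoPart Q, ∀ y ∈ twoPart Q,
    QuotientGroup.mk' (Cfsg.oddCore L) x = QuotientGroup.mk' (Cfsg.oddCore L) y → x = y := by
  set f := QuotientGroup.mk' (Cfsg.oddCore L)
  intro x hx y hy e
  rw [← inv_mul_eq_one]
  have h1 : x⁻¹ * y ∈ Cfsg.oddCore L := by
    rw [← QuotientGroup.eq_one_iff]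
    show f (x⁻¹ * y) = 1
    rw [map_mul, map_inv, e, inv_mul_cancel]
  obtain ⟨k, hk⟩ := IsPGroup.iff_orderOf.1 Q.isPGroup' ⟨x⁻¹ * y, mul_mem (inv_mem hx.1) hy.1⟩
  rw [Subgroup.orderOf_mk] at hk
  exact orderOf_eq_one_iff.1 (Nat.eq_one_of_dvd_coprimes
    (coprime_of_sq ⟨k, hk⟩ (ZStar.odd_orderOf_oddCore h1)) dvd_rfl dvd_rfl)

theorem twoPart_frattini (l : L) :
    ∃ o ∈ Cfsg.oddCore L, ∀ x ∈ twoPart Q, o * l * x * (o * l)⁻¹ ∈ twoPart Q := by
  haveI : Fact (Nat.Prime 2) := ⟨Nat.prime_two⟩
  set f := QuotientGroup.mk' (Cfsg.oddCore L)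
  set T := Cfsg.pCore 2 (L ⧸ Cfsg.oddCore L)
  have hT : IsPGroup 2 T := Core.pCore_isPGroup 2 _
  set N := T.comap f
  set T0 := twoPart Q
  have hTT0 : T0.map f = T := twoPart_map Q
  have hT0inj : ∀ x ∈ T0, ∀ y ∈ T0, f x = f y → x = y := twoPart_inj Q
  haveI : (T.comap f).Normal := Subgroup.Normal.comap inferInstance f
  set B := T0.map (MulAut.conj l).toMonoidHom
  have hBN : B ≤ N := by
    rintro _ ⟨x, hx, rfl⟩
    exact Subgroup.Normal.conj_mem inferInstance x hx.2 l
  have hidx : ¬ 2 ∣ (T0.subgroupOf N).index := by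
    have h1 := Core.card_comap_eq f (QuotientGroup.mk'_surjective _) T
    rw [QuotientGroup.ker_mk'] at h1
    have h2 : Nat.card T0 = Nat.card T := by
      let φ : T0 → T := fun x => ⟨f x, hTT0.le ⟨x, x.2, rfl⟩⟩
      refine Nat.card_eq_of_bijective φ
        ⟨fun x y e => Subtype.ext (hT0inj x x.2 y y.2 (congrArg Subtype.val e)), fun y => ?_⟩
      obtain ⟨x, hx, e⟩ := hTT0.ge y.2
      exact ⟨⟨x, hx⟩, Subtype.ext e⟩
    have h3 : (T0.subgroupOf N).index * Nat.card T0 = Nat.card N := by
      have hT0N : T0 ≤ N := inf_le_right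
      rw [← Nat.card_congr (Subgroup.subgroupOfEquivOfLe hT0N).toEquiv, Subgroup.index_mul_card]
    rw [h1, h2] at h3
    rw [Nat.eq_of_mul_eq_mul_right Nat.card_pos h3]
    exact fun hd => Nat.not_even_iff_odd.2 ZStar.odd_card_oddCore (even_iff_two_dvd.2 hd)
  set P : Sylow 2 ↥N := ((Q.isPGroup'.to_le inf_le_left : IsPGroup 2 T0).comap_of_injective
    N.subtype N.subtype_injective).toSylow hidx
  obtain ⟨R', hR'⟩ := (((Q.isPGroup'.to_le inf_le_left : IsPGroup 2 T0).map _ :
    IsPGroup 2 B).comap_of_injective N.subtype N.subtype_injective).exists_le_sylow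
  obtain ⟨n, hn⟩ := MulAction.exists_smul_eq N R' P
  have hnB : ∀ x ∈ T0, (n : L) * (l * x * l⁻¹) * (n : L)⁻¹ ∈ T0 := by
    intro x hx
    have hxN : l * x * l⁻¹ ∈ N := hBN ⟨x, hx, rfl⟩
    have h1 : n * (⟨l * x * l⁻¹, hxN⟩ : N) * n⁻¹ ∈ (P : Subgroup N) := by
      rw [← hn, Sylow.coe_subgroup_smul]
      exact ⟨⟨l * x * l⁻¹, hxN⟩, hR' (Subgroup.mem_comap.2 ⟨x, hx, rfl⟩), rfl⟩
    exact h1
  -- `n` is an element of the odd core times an element of `T0`
  obtain ⟨s, hs, hse⟩ : ∃ s ∈ T0, f s = f n := hTT0.ge n.2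
  refine ⟨s⁻¹ * n, (QuotientGroup.eq_one_iff _).1 ?_, fun x hx => ?_⟩
  · show f (s⁻¹ * n) = 1
    rw [map_mul, map_inv, hse, inv_mul_cancel]
  · have := mul_mem (mul_mem (inv_mem hs) (hnB x hx)) hs
    rwa [show s⁻¹ * n * l * x * (s⁻¹ * n * l)⁻¹ = s⁻¹ * ((n : L) * (l * x * l⁻¹) * (n : L)⁻¹) * s
      by group]

end Frattini

namespace Min

variable (h : Min p G)
include h

/-- The signalizer. -/
theorem mem_core_conj {a x : G} (n : G) (hx : x ∈ coreOf (Subgroup.centralizer ({a} : Set G))) :
    n * x * n⁻¹ ∈ coreOf (Subgroup.centralizer ({n * a * n⁻¹} : Set G)) := by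
  have h1 : (MulAut.conj n⁻¹).toMonoidHom (n * x * n⁻¹) = x := by simp [mul_assoc]
  have h2 : (MulAut.conj n⁻¹).toMonoidHom (n * a * n⁻¹) = a := by simp [mul_assoc]
  refine Sig.LocalBalance.mem_core_of_injective (f := (MulAut.conj n⁻¹).toMonoidHom)
    (MulAut.conj n⁻¹).injective ?_
  rw [h1, h2]
  exact hx

theorem exists_stronglyEmbedded : ∃ M : Subgroup G, Cfsg.IsStronglyEmbedded M := by
  haveI : Fact (Nat.Prime 2) := ⟨Nat.prime_two⟩
  obtain ⟨S, A, hAS, hSA, hA, hA8⟩ := h.exists_normal_eight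
  set θ : G → Subgroup G := fun a => coreOf (Subgroup.centralizer ({a} : Set G))
  have hord : ∀ a ∈ A, a ≠ 1 → orderOf a = 2 := fun a ha h1 => Invol.orderOf_eq_two_of h1 (hA a ha)
  have hbal : ∀ a b x : G, orderOf a = 2 → b ≠ 1 → Commute a b → x ∈ θ a → Commute x b → x ∈ θ b :=
    fun a b x ha hb hab hx hxb => h.balance ha hb hab hx hxb
  have hW := Cfsg.Agent.S0217.result (p := 2) A
    (fun a ha b hb => (commute_of_sq hA ha hb).eq)
    (fun a ha => by rw [pow_two]; exact hA a ha) (by norm_num; exact hA8) θ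
    (fun a _ _ => coreOf_le _)
    (fun a _ _ hd => Nat.not_even_iff_odd.2 (coreOf_odd _) (even_iff_two_dvd.2 hd))
    (fun a ha _ b hb x hx => (Subgroup.mem_normalizer_iff.1 (le_normalizer_coreOf _
      (Subgroup.mem_centralizer_singleton_iff.2 (commute_of_sq hA hb ha).eq)) x).1 hx)
    (fun a _ _ => Cfsg.Agent.S0205.result (coreOf_odd _))
    (fun a ha ha1 b hb hb1 x hx => hbal a b x (hord a ha ha1) hb1 (commute_of_sq hA ha hb) hx.1
      (Subgroup.mem_centralizer_singleton_iff.1 hx.2))
  set W := ⨆ a : {a : G // a ∈ A ∧ a ≠ 1}, θ a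
  have hWodd : Odd (Nat.card W) := Nat.not_even_iff_odd.1 fun he => hW.1 (even_iff_two_dvd.1 he)
  have hθW : ∀ a ∈ A, a ≠ 1 → θ a ≤ W := fun a ha h1 =>
    le_iSup (fun a : {a : G // a ∈ A ∧ a ≠ 1} => θ a) ⟨a, ha, h1⟩
  have hNA : Subgroup.normalizer (A : Set G) ≤ Subgroup.normalizer (W : Set G) := by
    intro n hn
    refine Subgroup.mem_normalizer_fintype fun x hx => ?_
    have key : W.map (MulAut.conj n).toMonoidHom ≤ W := by
      rw [Subgroup.map_iSup]
      refine iSup_le fun a => ?_
      rintro _ ⟨y, hy, rfl⟩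
      exact hθW _ ((Subgroup.mem_normalizer_iff.1 hn _).1 a.2.1)
        (fun e => a.2.2 (conj_eq_one_iff.1 e)) (h.mem_core_conj n hy)
    exact key ⟨x, hx, rfl⟩
  have hSW : (S : Subgroup G) ≤ Subgroup.normalizer (W : Set G) := hSA.trans hNA
  have hall : ∀ t ∈ (S : Subgroup G), orderOf t = 2 → θ t ≤ W := by
    intro t ht ht2
    set E := A ⊓ Subgroup.centralizer ({t} : Set G)
    refine (le_iSup_of_four (E := E) (fun e he => hA e he.1)
      (four_le_inf_centralizer hA hA8 (Invol.inv_mul_self ht2) (hSA ht))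
      (inf_le_right.trans (le_normalizer_coreOf _)) (coreOf_odd _)).trans (iSup_le fun e => ?_)
    intro x hx
    exact hθW e e.2.1.1 e.2.2 (hbal t e x ht2 e.2.2
      (Subgroup.mem_centralizer_singleton_iff.1 e.2.1.2).symm hx.1
      (Subgroup.mem_centralizer_singleton_iff.1 hx.2))
  have hinf : ∀ v ∈ (S : Subgroup G), orderOf v = 2 → W ⊓ Subgroup.centralizer ({v} : Set G) ≤ θ v := by
    intro v hv hv2
    set E := A ⊓ Subgroup.centralizer ({v} : Set G)
    have hEn : E ≤ Subgroup.normalizer
        ((W ⊓ Subgroup.centralizer ({v} : Set G) : Subgroup G) : Set G) :=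
      (le_inf ((inf_le_left.trans hAS).trans hSW) (inf_le_right.trans Subgroup.le_normalizer)).trans
        Subgroup.inf_normalizer_le_normalizer_inf
    refine (le_iSup_of_four (E := E) (fun e he => hA e he.1)
      (four_le_inf_centralizer hA hA8 (Invol.inv_mul_self hv2) (hSA hv)) hEn
      (hWodd.of_dvd_nat (Subgroup.card_dvd_of_le inf_le_left))).trans (iSup_le fun e => ?_)
    intro x hx
    have hx' : x ∈ θ e := (hW.2 e e.2.1.1 e.2.2).le ⟨hx.1.1, hx.2⟩
    exact hbal e v x (hord e e.2.1.1 e.2.2) (Invol.ne_one hv2)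
      (Subgroup.mem_centralizer_singleton_iff.1 e.2.1.2) hx'
      (Subgroup.mem_centralizer_singleton_iff.1 hx.1.2)
  -- conjugating a four-group within `S` fixes `W`
  have hweak : ∀ (V : Subgroup G) (g : G), V ≤ (S : Subgroup G) → (∀ v ∈ V, v * v = 1) →
      4 ≤ Nat.card V → (∀ v ∈ V, g * v * g⁻¹ ∈ (S : Subgroup G)) →
      g ∈ Subgroup.normalizer (W : Set G) := by
    intro V g hV hsq h4 hg
    refine Subgroup.mem_normalizer_fintype fun x hx => ?_
    have key : W.map (MulAut.conj g).toMonoidHom ≤ W := by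
      refine (Subgroup.map_mono (le_iSup_of_four hsq h4 (hV.trans hSW) hWodd)).trans ?_
      rw [Subgroup.map_iSup]
      refine iSup_le fun v => ?_
      rintro _ ⟨y, hy, rfl⟩
      have hv2 : orderOf (v : G) = 2 := Invol.orderOf_eq_two_of v.2.2 (hsq _ v.2.1)
      exact hall _ (hg _ v.2.1) (by rw [Invol.orderOf_conj_eq, hv2])
        (h.mem_core_conj g (hinf _ (hV v.2.1) hv2 hy))
    exact key ⟨x, hx, rfl⟩
  by_cases hb : W = ⊥
  · -- all 2-locals have characteristic two
    have hθ : ∀ t : G, orderOf t = 2 → θ t = ⊥ := by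
      intro t ht2
      obtain ⟨Q, hQ⟩ := (IsPGroup.of_card (p := 2) (n := 1)
        (by rw [Nat.card_zpowers, ht2, pow_one]) : IsPGroup 2 (Subgroup.zpowers t)).exists_le_sylow
      obtain ⟨c, hc⟩ := MulAction.exists_smul_eq G Q S
      have hct : c * t * c⁻¹ ∈ (S : Subgroup G) := by
        rw [← hc, Sylow.coe_subgroup_smul]
        exact ⟨t, hQ (Subgroup.mem_zpowers t), by simp [MulAut.smul_def]⟩
      refine eq_bot_iff.2 fun x hx => ?_
      have := (hall _ hct (by rw [Invol.orderOf_conj_eq, ht2])).trans hb.le (h.mem_core_conj c hx)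
      exact Subgroup.mem_bot.2 (conj_eq_one_iff.1 (Subgroup.mem_bot.1 this))
    have hO : Cfsg.pCore 2 G = ⊥ := by
      haveI := h.simple
      exact (IsSimpleGroup.eq_bot_or_eq_top_of_normal (Cfsg.pCore 2 G) inferInstance).resolve_right
        fun e => h.ne_top_of_isPGroup (Core.pCore_isPGroup 2 G) e
    have hloc : ∀ L : Subgroup G, Cfsg.IsTwoLocal L → Group.IsSolvable L ∧
        Cfsg.IsOfCharacteristicTwo ↥L ∧ ¬ Cfsg.Involves (Equiv.Perm (Fin 4)) ↥L := by
      rintro L ⟨T, hT, hTne, rfl⟩
      set L := Subgroup.normalizer (T : Set G)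
      haveI hsol := h.solvable L (h.normalizer_ne_top_two hTne hT)
      refine ⟨hsol, ?_, fun hi => h.sfour_free ?_⟩
      · refine Core.centralizer_pCore_le_of_isPSolvable Core.isPSolvable_of_isSolvable ?_
        -- the odd core is trivial
        set Y := coreOf L
        obtain ⟨z, hzT, hz2, hzc⟩ : ∃ z ∈ T, orderOf z = 2 ∧ ∀ y ∈ T, Commute z y := by
          haveI : Nontrivial T := (Subgroup.nontrivial_iff_ne_bot _).2 hTne
          haveI := hT.center_nontrivial
          obtain ⟨k, hk⟩ := IsPGroup.iff_card.1 (hT.to_subgroup (Subgroup.center T))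
          have hk0 : k ≠ 0 := fun e => by
            rw [e, pow_zero] at hk
            exact absurd hk (ne_of_gt Finite.one_lt_card)
          obtain ⟨c, hc⟩ := exists_prime_orderOf_dvd_card' (G := Subgroup.center T) 2
            (hk ▸ dvd_pow_self 2 hk0)
          refine ⟨((c : T) : G), (c : T).2, ?_, fun y hy => ?_⟩
          · rw [Subgroup.orderOf_coe, Subgroup.orderOf_coe, hc]
          · exact congrArg Subtype.val (Subgroup.mem_center_iff.1 c.2 ⟨y, hy⟩).symm
        set C := Subgroup.centralizer ({z} : Set G)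
        haveI := h.solvable C (h.centralizer_ne_top (Invol.ne_one hz2))
        set U : Subgroup G := (Cfsg.pCore 2 ↥C).map C.subtype
        have hU : IsPGroup 2 U := (Core.pCore_isPGroup 2 ↥C).map _
        have hCU : C ≤ Subgroup.normalizer (U : Set G) := fun c hc => by
          refine Subgroup.le_normalizer_map C.subtype ⟨⟨c, hc⟩, ?_, rfl⟩
          rw [Subgroup.normalizer_eq_top_iff.2 inferInstance]
          exact Subgroup.mem_top _
        have hYT : ∀ y ∈ Y, ∀ t ∈ T, Commute y t := fun y hy t ht =>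
          coreOf_commute Subgroup.le_normalizer le_rfl hT hy ht
        have hYC : Y ≤ C := fun y hy => Subgroup.mem_centralizer_singleton_iff.2 (hYT y hy z hzT).eq
        have hTC : T ≤ C := fun t ht => Subgroup.mem_centralizer_singleton_iff.2 (hzc t ht).eq.symm
        have hself : Subgroup.centralizer (Cfsg.pCore 2 ↥C : Set C) ≤ Cfsg.pCore 2 ↥C :=
          Core.centralizer_pCore_le_of_isPSolvable Core.isPSolvable_of_isSolvable
            ((Subgroup.map_eq_bot_iff_of_injective _ C.subtype_injective).1 (hθ z hz2))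
        have hle := Cfsg.Agent.S0028.result (p := 2) T Y U hT
          (Nat.coprime_two_right.2 (coreOf_odd L)) hU
          (fun t ht => Subgroup.mem_centralizer_iff.2 fun y hy => (hYT y hy t ht).eq)
          (hTC.trans hCU) (hYC.trans hCU) (fun w hw => Subgroup.mem_centralizer_iff.2 fun y hy => by
            have hwT : w ∈ L := Subgroup.centralizer_le_normalizer _ hw.2
            have h1 : y * w * y⁻¹ * w⁻¹ ∈ U :=
              mul_mem ((Subgroup.mem_normalizer_iff.1 (hCU (hYC hy)) w).1 hw.1) (inv_mem hw.1)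
            have h2 : y * w * y⁻¹ * w⁻¹ ∈ Y := by
              rw [show y * w * y⁻¹ * w⁻¹ = y * (w * y⁻¹ * w⁻¹) by group]
              exact mul_mem hy
                ((Subgroup.mem_normalizer_iff.1 (le_normalizer_coreOf L hwT) _).1 (inv_mem hy))
            have h3 : y * w * y⁻¹ * w⁻¹ = 1 := by
              obtain ⟨k, hk⟩ := IsPGroup.iff_card.1 hU
              exact Subgroup.disjoint_def.1 (Subgroup.disjoint_of_coprime_natCard (H := U) (K := Y)
                (hk ▸ Nat.Coprime.pow_left k (coreOf_odd L).coprime_two_left)) h1 h2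
            rw [mul_inv_eq_one, mul_inv_eq_iff_eq_mul] at h3
            exact h3)
        refine (Subgroup.map_eq_bot_iff_of_injective _ L.subtype_injective).1
          (eq_bot_iff.2 fun y hy => Subgroup.mem_bot.2 ?_)
        have hyC : (⟨y, hYC hy⟩ : C) ∈ Cfsg.pCore 2 ↥C := hself (Subgroup.mem_centralizer_iff.2
          fun w hw => Subtype.ext (Subgroup.mem_centralizer_iff.1 (hle hy) w ⟨w, hw, rfl⟩))
        obtain ⟨k, hk⟩ := IsPGroup.iff_orderOf.1 (Core.pCore_isPGroup 2 ↥C) ⟨_, hyC⟩
        rw [Subgroup.orderOf_mk, Subgroup.orderOf_mk] at hk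
        exact orderOf_eq_one_iff.1 (Nat.eq_one_of_dvd_coprimes
          (coprime_of_sq ⟨k, hk⟩ (coreOf_odd L)) dvd_rfl (Subgroup.orderOf_dvd_natCard _ hy))
      · obtain ⟨K, R, hR, ⟨e⟩⟩ := hi
        exact Cfsg.Lib.FusionSys.involves_of_injective L.subtype_injective ⟨K, R, hR, ⟨e⟩⟩
    have hS0 : (S : Subgroup G) ≠ ⊥ := S.ne_bot_of_dvd_card (even_iff_two_dvd.1 h.even_card)
    obtain ⟨M, hM, -⟩ : ∃ M : Subgroup G, Cfsg.IsMaximalTwoLocal M ∧
        Subgroup.normalizer ((S : Subgroup G) : Set G) ≤ M := by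
      obtain ⟨M, hM, hmax⟩ := Set.exists_max_image
        {N : Subgroup G | Cfsg.IsTwoLocal N ∧ Subgroup.normalizer ((S : Subgroup G) : Set G) ≤ N}
        (fun N => Nat.card N) (Set.toFinite _) ⟨_, ⟨S, S.isPGroup', hS0, rfl⟩, le_rfl⟩
      refine ⟨M, ⟨hM.1, fun N hN hle => ?_⟩, hM.2⟩
      exact (Subgroup.eq_of_le_of_card_ge hle (hmax N ⟨hN, hM.2.trans hle⟩)).symm
    exact ⟨M, Cfsg.Agent.S3756.result h.even_card hO hloc M hM⟩
  · set M := Subgroup.normalizer (W : Set G)
    have hM : M ≠ ⊤ := h.normalizer_ne_top hb fun e => by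
      rw [e, Subgroup.card_top] at hWodd
      exact Nat.not_even_iff_odd.2 hWodd h.even_card
    have hMeven : Even (Nat.card M) := by
      obtain ⟨a, ha⟩ := exists_prime_orderOf_dvd_card' (G := A) 2 (by
        obtain ⟨k, hk⟩ := IsPGroup.iff_card.1 (isPGroup_of_sq hA)
        have hk0 : k ≠ 0 := by rintro rfl; rw [hk] at hA8; norm_num at hA8
        exact hk ▸ dvd_pow_self 2 hk0)
      rw [even_iff_two_dvd, ← ha, ← Subgroup.orderOf_coe]
      exact Subgroup.orderOf_dvd_natCard M (hSW (hAS a.2))
    -- every 2-subgroup of `M` is conjugate into `S` in `M`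
    have hmove : ∀ V : Subgroup G, V ≤ M → IsPGroup 2 V → ∃ m ∈ M, ∀ v ∈ V, m * v * m⁻¹ ∈ (S : Subgroup G) := by
      intro V hVM hV
      obtain ⟨Q, hQ⟩ := (hV.comap_of_injective M.subtype M.subtype_injective).exists_le_sylow
      obtain ⟨m, hm⟩ := MulAction.exists_smul_eq M Q (S.subtype hSW)
      refine ⟨m, m.2, fun v hv => ?_⟩
      have h1 : m * (⟨v, hVM hv⟩ : M) * m⁻¹ ∈ ((S.subtype hSW : Sylow 2 M) : Subgroup M) := by
        rw [← hm, Sylow.coe_subgroup_smul]
        exact ⟨⟨v, hVM hv⟩, hQ (Subgroup.mem_comap.2 hv), rfl⟩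
      exact h1
    have hweakM : ∀ (V : Subgroup G) (g : G), V ≤ M → (∀ v ∈ V, v * v = 1) → 4 ≤ Nat.card V →
        (∀ v ∈ V, g * v * g⁻¹ ∈ M) → g ∈ M := by
      intro V g hV hsq h4 hg
      obtain ⟨a, ha, hav⟩ := hmove V hV (isPGroup_of_sq hsq)
      obtain ⟨b, hb', hbv⟩ := hmove (V.map (MulAut.conj g).toMonoidHom)
        (by rintro _ ⟨v, hv, rfl⟩; exact hg v hv) ((isPGroup_of_sq hsq).map _)
      have key := hweak (V.map (MulAut.conj a).toMonoidHom) (b * g * a⁻¹)
        (by rintro _ ⟨v, hv, rfl⟩; exact hav v hv)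
        (by
          rintro _ ⟨v, hv, rfl⟩
          show a * v * a⁻¹ * (a * v * a⁻¹) = 1
          rw [show a * v * a⁻¹ * (a * v * a⁻¹) = a * (v * v) * a⁻¹ by group, hsq v hv, mul_one,
            mul_inv_cancel])
        (by rwa [Subgroup.card_map_of_injective (MulAut.conj a).injective])
        (by
          rintro _ ⟨v, hv, rfl⟩
          show b * g * a⁻¹ * (a * v * a⁻¹) * (b * g * a⁻¹)⁻¹ ∈ (S : Subgroup G)
          rw [show b * g * a⁻¹ * (a * v * a⁻¹) * (b * g * a⁻¹)⁻¹ = b * (g * v * g⁻¹) * b⁻¹ by group]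
          exact hbv _ ⟨v, hv, rfl⟩)
      have := mul_mem (mul_mem (inv_mem hb') key) ha
      rwa [show b⁻¹ * (b * g * a⁻¹) * a = g by group] at this
    -- centralizers of the involutions of `S`
    have hC : ∀ t ∈ (S : Subgroup G), orderOf t = 2 → Subgroup.centralizer ({t} : Set G) ≤ M := by
      intro t ht ht2
      set L := Subgroup.centralizer ({t} : Set G) with hL
      haveI := h.solvable L (h.centralizer_ne_top (Invol.ne_one ht2))
      set E := A ⊓ L
      have hE4 : 4 ≤ Nat.card E :=
        four_le_inf_centralizer hA hA8 (Invol.inv_mul_self ht2) (hSA ht)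
      obtain ⟨Q, hQ⟩ := ((S.isPGroup'.to_le inf_le_left :
        IsPGroup 2 ↥((S : Subgroup G) ⊓ L)).comap_of_injective L.subtype L.subtype_injective).exists_le_sylow
      obtain ⟨R, hR⟩ := (Q.isPGroup'.map L.subtype :
        IsPGroup 2 ((Q : Subgroup L).map L.subtype)).exists_le_sylow
      obtain ⟨c, hc⟩ := MulAction.exists_smul_eq G R S
      have hcQ : ∀ x : L, x ∈ (Q : Subgroup L) → c * x * c⁻¹ ∈ (S : Subgroup G) := fun x hx => by
        rw [← hc, Sylow.coe_subgroup_smul]
        exact ⟨x, hR ⟨x, hx, rfl⟩, by simp [MulAut.smul_def]⟩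
      have hcM : c ∈ M := hweakM E c (inf_le_left.trans (hAS.trans hSW)) (fun e he => hA e he.1) hE4
        fun e he => hSW (hcQ ⟨e, he.2⟩ (hQ (Subgroup.mem_comap.2 ⟨hAS he.1, he.2⟩)))
      have hQM : ∀ x : L, x ∈ (Q : Subgroup L) → (x : G) ∈ M := fun x hx => by
        have := mul_mem (mul_mem (inv_mem hcM) (hSW (hcQ x hx))) hcM
        rwa [show c⁻¹ * (c * (x : G) * c⁻¹) * c = x by group] at this
      have hOM : ∀ x : L, x ∈ Cfsg.oddCore ↥L → (x : G) ∈ M := fun x hx =>
        Subgroup.le_normalizer (hall t ht ht2 ⟨x, hx, rfl⟩)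
      have htQ : (⟨t, Subgroup.mem_centralizer_singleton_iff.2 rfl⟩ : L) ∈ (Q : Subgroup L) :=
        hQ (Subgroup.mem_comap.2 ⟨ht, Subgroup.mem_centralizer_singleton_iff.2 rfl⟩)
      set f := QuotientGroup.mk' (Cfsg.oddCore ↥L)
      haveI : Group.IsSolvable (↥L ⧸ Cfsg.oddCore ↥L) :=
        Group.isSolvable_of_surjective (QuotientGroup.mk'_surjective _)
      set T := Cfsg.pCore 2 (↥L ⧸ Cfsg.oddCore ↥L)
      have hT : IsPGroup 2 T := Core.pCore_isPGroup 2 _
      have hself : Subgroup.centralizer (T : Set (↥L ⧸ Cfsg.oddCore ↥L)) ≤ T :=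
        Core.centralizer_pCore_le_of_isPSolvable Core.isPSolvable_of_isSolvable
          Core.pPrimeCore_quotient_eq_bot
      set T0 := twoPart Q
      have hTT0 : T0.map f = T := twoPart_map Q
      have hT0inj : ∀ x ∈ T0, ∀ y ∈ T0, f x = f y → x = y := twoPart_inj Q
      have hfr : ∀ l : L, ∃ o ∈ Cfsg.oddCore ↥L, ∀ x ∈ T0, o * l * x * (o * l)⁻¹ ∈ T0 :=
        twoPart_frattini Q
      by_cases hex : ∃ v ∈ T0, orderOf v = 2 ∧ (v : G) ≠ t
      · obtain ⟨v, hv, hv2, hvt⟩ := hex
        have hvG : (v : G) * v = 1 := Invol.inv_mul_self (by rw [Subgroup.orderOf_coe, hv2])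
        have htv : Commute t (v : G) := (Subgroup.mem_centralizer_singleton_iff.1 v.2).symm
        set tL : L := ⟨t, Subgroup.mem_centralizer_singleton_iff.2 rfl⟩
        have htT0 : tL ∈ T0 := by
          refine ⟨htQ, Subgroup.mem_comap.2 (hself (Subgroup.mem_centralizer_iff.2 fun y hy => ?_))⟩
          obtain ⟨w, rfl⟩ := QuotientGroup.mk'_surjective _ y
          rw [← map_mul, ← map_mul, show w * tL = tL * w from
            Subtype.ext (Subgroup.mem_centralizer_singleton_iff.1 w.2)]
        let V : Subgroup G :=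
          { carrier := {x | x = 1 ∨ x = t ∨ x = v ∨ x = t * v}
            one_mem' := Or.inl rfl
            mul_mem' := fun {a b} ha hb => by
              have htt := Invol.inv_mul_self ht2
              rcases ha with rfl | rfl | rfl | rfl <;> rcases hb with rfl | rfl | rfl | rfl
              all_goals first
                | (left; simp [htt, hvG]; done)
                | (right; left; simp [htt, hvG]; done)
                | (right; right; left; simp [htt, hvG]; done)
                | (right; right; right; simp [htt, hvG]; done)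
                | (right; right; right; exact htv.eq.symm)
                | (right; right; left; rw [← mul_assoc, htt, one_mul])
                | (right; left; rw [mul_assoc, hvG, mul_one])
                | (right; left; rw [htv.eq, ← mul_assoc, hvG, one_mul])
                | (right; right; left; rw [htv.eq, mul_assoc, htt, mul_one])
                | (left; rw [htv.symm.mul_mul_mul_comm, htt, hvG, one_mul])
            inv_mem' := fun {a} ha => by
              rcases ha with rfl | rfl | rfl | rfl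
              · exact Or.inl inv_one
              · exact Or.inr (Or.inl (Invol.inv_eq_self ht2))
              · exact Or.inr (Or.inr (Or.inl (inv_eq_of_mul_eq_one_right hvG)))
              · refine Or.inr (Or.inr (Or.inr ?_))
                rw [mul_inv_rev, inv_eq_of_mul_eq_one_right hvG, Invol.inv_eq_self ht2, htv.eq] }
        have hVmem : ∀ x : G, x ∈ V → ∃ y ∈ T0, (y : G) = x := by
          intro x hx
          have hx' : x = 1 ∨ x = t ∨ x = v ∨ x = t * v := hx
          rcases hx' with rfl | rfl | rfl | rfl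
          exacts [⟨1, one_mem _, rfl⟩, ⟨tL, htT0, rfl⟩, ⟨v, hv, rfl⟩, ⟨tL * v, mul_mem htT0 hv, rfl⟩]
        have hV2 : ∀ x ∈ V, x * x = 1 := by
          intro x hx
          have hx' : x = 1 ∨ x = t ∨ x = v ∨ x = t * v := hx
          rcases hx' with rfl | rfl | rfl | rfl
          exacts [one_mul 1, Invol.inv_mul_self ht2, hvG,
            by rw [htv.symm.mul_mul_mul_comm, Invol.inv_mul_self ht2, hvG, one_mul]]
        have hV4 : 4 ≤ Nat.card V := by
          classical
          haveI := Fintype.ofFinite V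
          have hv1 : (v : G) ≠ 1 := fun e => Invol.ne_one hv2 (Subtype.ext e)
          have ht1 := Invol.ne_one ht2
          have htv1 : t * (v : G) ≠ 1 := fun e =>
            hvt ((eq_inv_of_mul_eq_one_right e).trans (Invol.inv_eq_self ht2))
          have hsub : ({1, t, (v : G), t * v} : Finset G) ⊆ (V : Set G).toFinite.toFinset := by
            intro z hz
            simp only [Finset.mem_insert, Finset.mem_singleton] at hz
            exact (Set.Finite.mem_toFinset _).2 hz
          have h4 : ({1, t, (v : G), t * v} : Finset G).card = 4 := by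
            rw [Finset.card_insert_of_notMem, Finset.card_insert_of_notMem,
              Finset.card_insert_of_notMem, Finset.card_singleton]
            · simp only [Finset.mem_singleton]
              exact fun e => ht1 (mul_eq_right.1 e.symm)
            · simp only [Finset.mem_insert, Finset.mem_singleton, not_or]
              exact ⟨fun e => hvt e.symm, fun e => hv1 (mul_eq_left.1 e.symm)⟩
            · simp only [Finset.mem_insert, Finset.mem_singleton, not_or]
              exact ⟨fun e => ht1 e.symm, fun e => hv1 e.symm, fun e => htv1 e.symm⟩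
          have := Finset.card_le_card hsub
          rwa [h4, ← Set.ncard_eq_toFinset_card _, ← Nat.card_coe_set_eq] at this
        intro x hx
        obtain ⟨o, ho, hl⟩ := hfr ⟨x, hx⟩
        have hmem : ((o * ⟨x, hx⟩ : L) : G) ∈ M := by
          refine hweakM V _ (fun w hw => ?_) hV2 hV4 fun w hw => ?_
          · obtain ⟨y, hy, rfl⟩ := hVmem w hw
            exact hQM y hy.1
          · obtain ⟨y, hy, rfl⟩ := hVmem w hw
            exact hQM _ (hl y hy).1
        have := mul_mem (inv_mem (hOM o ho)) hmem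
        rwa [Subgroup.coe_mul, inv_mul_cancel_left] at this
      · push Not at hex
        -- odd elements lie in the odd core
        have hoddmem : ∀ (r : ℕ) (y : L), r.Prime → r ≠ 2 → (∃ k, orderOf y = r ^ k) → y ∈ Cfsg.oddCore ↥L := by
          rintro r y hr hr2 ⟨k, hk⟩
          by_cases hrp : r = p
          · subst hrp
            haveI : (T : Subgroup (↥L ⧸ Cfsg.oddCore ↥L)).Normal := inferInstance
            set σ : MulAut T := MulAut.conjNormal (f y)
            have hσ : σ ^ r ^ k = 1 := by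
              rw [← map_pow, ← map_pow, ← hk, pow_orderOf_eq_one, map_one, map_one]
            have hu : ∀ a b : T, orderOf a = 2 → orderOf b = 2 → a = b := by
              intro a b ha hb
              obtain ⟨a', ha', hae⟩ := hTT0.ge a.2
              obtain ⟨b', hb', hbe⟩ := hTT0.ge b.2
              have key : ∀ (w : T) (w' : L), w' ∈ T0 → f w' = w → orderOf w = 2 → (w' : G) = t := by
                intro w w' hw' hwe hw2
                refine hex w' hw' (Invol.orderOf_eq_two_of ?_ ?_)
                · intro e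
                  rw [e, map_one] at hwe
                  exact Invol.ne_one hw2 (Subtype.ext hwe.symm)
                · refine hT0inj _ (mul_mem hw' hw') _ (one_mem _) ?_
                  rw [map_mul, map_one, hwe]
                  exact congrArg Subtype.val (Invol.inv_mul_self hw2)
              refine Subtype.ext ?_
              rw [← hae, ← hbe, Subtype.ext ((key a a' ha' hae ha).trans (key b b' hb' hbe hb).symm)]
            have h1 := aut_trivial hT hu h.prime h.gt σ hσ
            have hyT : f y ∈ T := hself (Subgroup.mem_centralizer_iff.2 fun w hw => by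
              have : σ ⟨w, hw⟩ = ⟨w, hw⟩ := by rw [h1]; rfl
              have e : f y * w * (f y)⁻¹ = w := congrArg Subtype.val this
              exact (mul_inv_eq_iff_eq_mul.1 e).symm)
            obtain ⟨j, hj⟩ := IsPGroup.iff_orderOf.1 hT ⟨f y, hyT⟩
            rw [Subgroup.orderOf_mk] at hj
            refine (QuotientGroup.eq_one_iff y).1 (orderOf_eq_one_iff.1 (Nat.eq_one_of_dvd_coprimes
              (coprime_of_sq ⟨j, hj⟩ ((hr.odd_of_ne_two hr2).pow (n := k))) dvd_rfl ?_))
            exact hk ▸ orderOf_map_dvd f y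
          · refine (h.toHyp.subgroup L).odd_mem_core ?_ ?_
            · rw [hk]; exact (hr.odd_of_ne_two hr2).pow
            · rw [hk]; exact Nat.Coprime.pow_left k ((Nat.coprime_primes hr h.prime).2 hrp)
        have htop : (Q : Subgroup L) ⊔ Cfsg.oddCore ↥L = ⊤ := by
          rw [← Subgroup.index_eq_one]
          by_contra hne
          obtain ⟨r, hr, hrd⟩ := Nat.exists_prime_and_dvd hne
          haveI := Fact.mk hr
          have hr2 : r ≠ 2 := by
            rintro rfl
            exact Q.not_dvd_index (hrd.trans (Subgroup.index_dvd_of_le le_sup_left))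
          obtain ⟨P⟩ := (inferInstance : Nonempty (Sylow r L))
          refine P.not_dvd_index (hrd.trans (Subgroup.index_dvd_of_le (le_trans ?_ le_sup_right)))
          intro y hy
          obtain ⟨k, hk⟩ := IsPGroup.iff_orderOf.1 P.isPGroup' ⟨y, hy⟩
          rw [Subgroup.orderOf_mk] at hk
          exact hoddmem r y hr hr2 ⟨k, hk⟩
        intro x hx
        have hle : (Q : Subgroup L) ⊔ Cfsg.oddCore ↥L ≤ M.subgroupOf L :=
          sup_le (fun y hy => hQM y hy) (fun y hy => hOM y hy)
        exact hle (htop.ge (Subgroup.mem_top ⟨x, hx⟩))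
    refine ⟨M, (Invol.stronglyEmbedded_iff hM hMeven).2 ?_⟩
    intro t ht ht2 g hg
    have hCM : ∀ s ∈ M, orderOf s = 2 → Subgroup.centralizer ({s} : Set G) ≤ M := by
      intro s hs hs2 x hx
      obtain ⟨m, hm, hms⟩ := hmove (Subgroup.zpowers s) (Subgroup.zpowers_le.2 hs)
        (IsPGroup.of_card (n := 1) (by rw [Nat.card_zpowers, hs2, pow_one]))
      have h1 : m * x * m⁻¹ ∈ M := hC _ (hms s (Subgroup.mem_zpowers s))
        (by rw [Invol.orderOf_conj_eq, hs2]) (Subgroup.mem_centralizer_singleton_iff.2 (by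
          calc m * x * m⁻¹ * (m * s * m⁻¹) = m * (x * s) * m⁻¹ := by group
            _ = m * (s * x) * m⁻¹ := by rw [Subgroup.mem_centralizer_singleton_iff.1 hx]
            _ = m * s * m⁻¹ * (m * x * m⁻¹) := by group))
      have := mul_mem (mul_mem (inv_mem hm) h1) hm
      rwa [show m⁻¹ * (m * x * m⁻¹) * m = x by group] at this
    obtain ⟨m, hm, hmt⟩ := hmove (Subgroup.zpowers t) (Subgroup.zpowers_le.2 ht)
      (IsPGroup.of_card (n := 1) (by rw [Nat.card_zpowers, ht2, pow_one]))
    set t' := m * t * m⁻¹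
    have ht'2 : orderOf t' = 2 := by rw [Invol.orderOf_conj_eq, ht2]
    set E := A ⊓ Subgroup.centralizer ({t'} : Set G)
    have key : g * m⁻¹ ∈ M := hweakM E (g * m⁻¹) (inf_le_left.trans (hAS.trans hSW))
      (fun e he => hA e he.1) (four_le_inf_centralizer hA hA8 (Invol.inv_mul_self ht'2)
        (hSA (hmt t (Subgroup.mem_zpowers t)))) fun e he =>
        hCM (g * t * g⁻¹) hg (by rw [Invol.orderOf_conj_eq, ht2])
          (Subgroup.mem_centralizer_singleton_iff.2 (by
            have he' : e * (m * t * m⁻¹) = m * t * m⁻¹ * e :=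
              Subgroup.mem_centralizer_singleton_iff.1 he.2
            calc g * m⁻¹ * e * (g * m⁻¹)⁻¹ * (g * t * g⁻¹)
                = g * m⁻¹ * (e * (m * t * m⁻¹)) * (g * m⁻¹)⁻¹ := by group
              _ = g * m⁻¹ * (m * t * m⁻¹ * e) * (g * m⁻¹)⁻¹ := by rw [he']
              _ = g * t * g⁻¹ * (g * m⁻¹ * e * (g * m⁻¹)⁻¹) := by group))
    have := mul_mem key hm
    rwa [inv_mul_cancel_right] at this

end Min

end Cfsg.Lib.PNil
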